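import Cfsg.Agent.PushFamily.Good
import Cfsg.Agent.PushRankOne.CLPush
import Cfsg.Agent.Fusion.CyclicNormal

/-!
# The obstruction meets every commutator `[V, S]`
-/

set_option autoImplicit false
set_option linter.unusedSectionVars false

universe u

namespace Cfsg.Agent.PushFamily

open Subgroup
open Cfsg.Agent.PushUp (fix)
open scoped commutatorElement

variable {S : Type u} [Group S] [Finite S] {p : ℕ} [Fact p.Prime]

instance s0_characteristic : (s0 p S).Characteristic := by
  haveI hΦ : (frattini S).Characteristic := inferInstance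
  haveI hΦΦ : ((frattini ↥(frattini S)).map (frattini S).subtype).Characteristic := by
    refine characteristic_iff_map_eq.2 fun φ => ?_
    rw [← PushRankOne.phi_map φ.injective, characteristic_iff_map_eq.1 hΦ φ]
    rfl
  haveI : (⊤ : Subgroup S).Characteristic := Subgroup.topCharacteristic
  haveI hP : (Cfsg.powerClosure p 1 (⊤ : Subgroup S)).Characteristic := by
    refine characteristic_iff_map_le.2 fun φ => ?_
    rw [Cfsg.powerClosure, MonoidHom.map_closure, closure_le]
    rintro _ ⟨_, ⟨x, -, rfl⟩, rfl⟩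
    exact Subgroup.subset_closure ⟨φ x, mem_top _, map_pow φ x _⟩
  have hc : ∀ A B : Subgroup S, A.Characteristic → B.Characteristic → (A ⊔ B).Characteristic :=
    fun A B hA hB => characteristic_iff_map_eq.2 fun φ => by
      rw [Subgroup.map_sup, characteristic_iff_map_eq.1 hA φ, characteristic_iff_map_eq.1 hB φ]
  unfold s0
  split_ifs
  · exact hc _ _ inferInstance hΦΦ
  · exact hc _ _ inferInstance hΦΦ
  · exact hc _ _ inferInstance hP

variable (h : Hyp p S) (i : Sit p S)

include h in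
/-- For `p = 2` and `|S : Q| = 2`, the obstruction is inside `Φ(Q)`. -/
theorem s0_le_phi (h2 : p = 2) (hidx : i.Q.index = 2) :
    s0 p S ≤ (frattini ↥i.Q).map i.Q.subtype := by
  subst h2
  set R := (frattini ↥i.Q).map i.Q.subtype with hR
  haveI : R.Normal := Fusion.normal_map_frattini i.Q
  haveI := (h.hS.to_subgroup i.Q).isNilpotent
  have hsq : ∀ q ∈ i.Q, q ^ 2 ∈ R := fun q hq =>
    ⟨_, Core.pow_mem_frattini (p := 2) (h.hS.to_subgroup i.Q) ⟨q, hq⟩, rfl⟩
  have hQQ : ∀ a ∈ i.Q, ∀ b ∈ i.Q, ⁅a, b⁆ ∈ R := fun a ha b hb =>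
    ⟨⁅(⟨a, ha⟩ : ↥i.Q), ⟨b, hb⟩⁆, Core.commutator_le_frattini (commutator_mem_commutator (mem_top _)
      (mem_top _)), map_commutatorElement _ _ _⟩
  have hx : ∀ x : S, x ^ 2 ∈ cen R := by
    intro x
    by_cases hxQ : x ∈ i.Q
    · exact le_cen R (hsq x hxQ)
    refine mem_cen.2 fun u => ?_
    by_cases huQ : u ∈ i.Q
    · exact hQQ _ (i.pow_mem_Q x) u huQ
    have hq : x⁻¹ * u ∈ i.Q :=
      (Subgroup.mul_mem_iff_of_index_two hidx).2 (by simp [hxQ, huQ])
    have e : ⁅x ^ 2, u⁆ = x * ⁅x ^ 2, x⁻¹ * u⁆ * x⁻¹ := by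
      simp only [commutatorElement_def, pow_two]; group
    rw [e]
    exact (inferInstance : R.Normal).conj_mem _ (hQQ _ (i.pow_mem_Q x) _ hq) x
  have hΦ : frattini S ≤ cen R := by
    refine Fusion.frattini_le_of_elementary (p := 2) _ ?_ hx
    rw [commutator_def]
    refine commutator_le.2 fun x _ y _ => ?_
    have e : ⁅x, y⁆ = (x * y) ^ 2 * (y⁻¹ * (x ^ 2)⁻¹ * y) * (y ^ 2)⁻¹ := by
      simp only [commutatorElement_def, pow_two]; group
    rw [e]
    refine mul_mem (mul_mem (hx _) ?_) (inv_mem (hx _))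
    have := (inferInstance : (cen R).Normal).conj_mem _ (inv_mem (hx x)) y⁻¹
    rwa [inv_inv] at this
  have hΦQ : frattini S ≤ i.Q := by
    refine Fusion.frattini_le_of_elementary (p := 2) _ ?_ i.pow_mem_Q
    rw [commutator_def]
    exact commutator_le.2 fun x _ y _ => i.comm_mem_Q x y
  unfold s0
  rw [if_pos rfl]
  refine sup_le ((commutator_mono hΦ le_rfl).trans (commutator_cen_le R)) ?_
  refine map_le_iff_le_comap.2 (Fusion.frattini_le_of_elementary (p := 2) _ ?_ fun x => ?_)
  · rw [commutator_def]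
    exact commutator_le.2 fun x _ y _ => hQQ _ (hΦQ x.2) _ (hΦQ y.2)
  · exact hsq _ (hΦQ x.2)

include h in
theorem base (hne : ¬ center S ⊓ s0 p S ≤ i.Zc) :
    ⁅i.V, (⊤ : Subgroup S)⁆ ⊓ (center S ⊓ s0 p S) ≠ ⊥ := by
  set X := center S ⊓ s0 p S with hX
  have hi : i.Nc := fun hle => hne (inf_le_left.trans hle)
  obtain ⟨F, iF, iFt, n, hF, hiso⟩ := i.psl
  haveI : CharP F p := charP_of_card_eq_prime_pow hF
  haveI := i.st.hK
  have hq := PushUp.card_sylow i.st.toSetup₀ F hiso
  rw [hF] at hq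
  obtain ⟨x, hx, hxc⟩ := SetLike.not_le_iff_exists.1 hne
  intro hbot
  rcases Nat.lt_or_ge 2 (p ^ n) with h3 | h3
  · -- an element normalizing `S` moves the noncentral part
    obtain ⟨hN, hfixV⟩ := i.natSec_V h hi hF hq
    obtain ⟨τ, hτS, hτ⟩ := NatSec.exists_move i.st hF hN h3
    choose f hf using fun s : S => i.exists_emb (hτS _ (i.emb_mem s))
    have hfm : ∀ s t, f (s * t) = f s * f t := fun s t => i.emb_injective (by
      rw [hf, map_mul, map_mul, hf, hf]; group)
    have hinj : Function.Injective f := fun s t e => i.emb_injective (by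
      have := congrArg i.emb e
      rw [hf, hf] at this
      simpa using this)
    let φ : MulAut S :=
      MulEquiv.ofBijective (MonoidHom.mk' f hfm) ⟨hinj, Finite.injective_iff_surjective.1 hinj⟩
    haveI : X.Characteristic := by
      rw [hX]
      refine characteristic_iff_comap_eq.2 fun ψ => ?_
      rw [Subgroup.comap_inf, characteristic_iff_comap_eq.1 inferInstance ψ,
        characteristic_iff_comap_eq.1 inferInstance ψ]
    have hφx : f x ∈ X := (characteristic_iff_map_le.1 (inferInstance : X.Characteristic) φ) ⟨x, hx, rfl⟩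
    have hxfix := hfixV ⟨x, hx.1, rfl⟩
    have hC : ⁅i.Vg, (i.P : Subgroup i.G)⁆ ≤ (⁅i.V, (⊤ : Subgroup S)⁆).map i.emb := by
      rw [map_commutator, i.map_V, ← MonoidHom.range_eq_map, i.emb_range]
    obtain ⟨u, hu, w, hw, e⟩ :=
      Subgroup.mem_sup_of_normal_right.1 ((sup_le_sup_right hC _) (NatSec.fix_le i.st hN hxfix))
    obtain ⟨cx, hcx, rfl⟩ := hu
    have hd : f x * x⁻¹ ∈ ⁅i.V, (⊤ : Subgroup S)⁆ := by
      have h1 : f cx ∈ ⁅i.V, (⊤ : Subgroup S)⁆ := by
        have hVφ : i.V.map φ.toMonoidHom = i.V := by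
          refine eq_of_le_of_card_ge ?_ (card_map_of_injective φ.injective).ge
          rintro _ ⟨v, hv, rfl⟩
          show i.emb (f v) ∈ i.Vg
          rw [hf]
          exact (inferInstance : i.Vg.Normal).conj_mem _ hv τ
        have h2 := map_commutator i.V (⊤ : Subgroup S) φ.toMonoidHom
        rw [hVφ, Subgroup.map_top_of_surjective φ.toMonoidHom φ.surjective] at h2
        exact h2 ▸ ⟨cx, hcx, rfl⟩
      have e2 : f x * x⁻¹ = f cx * cx⁻¹ := i.emb_injective (by
        rw [map_mul, map_mul, map_inv, map_inv, hf, hf, ← e]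
        have hwc := mem_center_iff.1 hw.2
        calc τ * (i.emb cx * w) * τ⁻¹ * (i.emb cx * w)⁻¹
            = τ * i.emb cx * (w * τ⁻¹) * w⁻¹ * (i.emb cx)⁻¹ := by group
          _ = τ * i.emb cx * (τ⁻¹ * w) * w⁻¹ * (i.emb cx)⁻¹ := by rw [hwc τ⁻¹]
          _ = _ := by group)
      rw [e2]
      exact mul_mem h1 (inv_mem hcx)
    have h1 : f x * x⁻¹ = 1 := mem_bot.1 (hbot.le ⟨hd, X.mul_mem hφx (X.inv_mem hx)⟩)
    refine hτ _ hxfix (fun hc => hxc hc.2) ?_
    rw [commutatorElement_def, ← hf, mul_inv_eq_one.1 h1, mul_inv_cancel]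
    exact one_mem _
  · -- `|F| = 2`
    have hp := (Fact.out : p.Prime).two_le
    have hn : n = 1 := by
      rcases Nat.eq_zero_or_pos n with rfl | hpos
      · exact absurd hF (Fintype.one_lt_card (α := F)).ne'
      · by_contra hne'
        have : p ^ 2 ≤ p ^ n := Nat.pow_le_pow_right (by omega) (by omega)
        nlinarith
    subst hn
    obtain rfl : p = 2 := by rw [pow_one] at h3; omega
    have hidx : i.Q.index = 2 := by
      have e := i.Q.card_mul_index
      rw [← i.map_Q, card_map_of_injective i.emb_injective,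
        show Nat.card (i.P : Subgroup i.G) = Nat.card S from (Nat.card_congr i.e.toEquiv).symm, pow_one]
        at hq
      rw [hq, mul_comm 2] at e
      exact Nat.eq_of_mul_eq_mul_left Nat.card_pos e
    have hs0 := s0_le_phi h i rfl hidx
    set N := normalClosure ({i.emb x} : Set i.G) with hN
    haveI : ((frattini ↥(Cfsg.pCore 2 i.G)).map (Cfsg.pCore 2 i.G).subtype).Normal :=
      Fusion.normal_map_frattini _
    have hNle : N ≤ i.Vg ⊓ (frattini ↥(Cfsg.pCore 2 i.G)).map (Cfsg.pCore 2 i.G).subtype := by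
      refine normalClosure_le_normal (Set.singleton_subset_iff.2 ⟨i.center_le_V hx.1, ?_⟩)
      show i.emb x ∈ PushRankOne.phi (Cfsg.pCore 2 i.G)
      rw [← i.map_Q, PushRankOne.phi_map i.emb_injective]
      exact ⟨x, hs0 hx.2, rfl⟩
    have hNnle : ¬ N ≤ (center S).map i.emb := fun hle =>
      hxc (i.normal_center hle (subset_normalClosure rfl))
    obtain ⟨g, hg, hgc⟩ := SetLike.not_le_iff_exists.1 hNnle
    obtain ⟨hgV, hgΦ⟩ := hNle hg
    have hgΦ' : g ∈ PushRankOne.phi (Cfsg.pCore 2 i.G) := hgΦ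
    rw [← i.map_Q, PushRankOne.phi_map i.emb_injective] at hgΦ'
    obtain ⟨v, hv, rfl⟩ := hgΦ'
    have hvV : v ∈ i.V := hgV
    have hvc : v ∉ center S := fun hc => hgc ⟨v, hc, rfl⟩
    obtain ⟨s, hs⟩ : ∃ s : S, ⁅v, s⁆ ≠ 1 := by
      by_contra hcon
      push Not at hcon
      exact hvc (mem_center_iff.2 fun s => (commutatorElement_eq_one_iff_mul_comm.1 (hcon s)).symm)
    refine hs (mem_bot.1 (hbot.le ⟨commutator_mem_commutator hvV (mem_top s), i.quad h hi hvV s, ?_⟩))
    unfold s0
    rw [if_pos rfl]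
    exact mem_sup_left (commutator_mem_commutator (Core.frattini_le_of_normal i.Q hv) (mem_top s))

end Cfsg.Agent.PushFamily
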