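import Cfsg.Agent.PushFamily.Path

/-!
# No critical path: a common normal characteristic subgroup
-/

set_option autoImplicit false
set_option linter.unusedSectionVars false

universe u

namespace Cfsg.Agent.PushFamily

open Subgroup
open Cfsg.Agent.CentLarge (IsMuMax)
open scoped commutatorElement

variable {S : Type u} [Group S] [Finite S] {p : ℕ} [Fact p.Prime]

/-- A common solution for a family. -/
def Solved (F : Set (Sit p S)) : Prop :=
  ∃ S₂ : Subgroup S, S₂.Characteristic ∧ IsMuMax S₂ ∧ centralizer (S₂ : Set S) ≤ S₂ ∧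
    ∀ i ∈ F, (S₂.map i.emb).Normal

theorem isMuMax_center (h : Hyp p S) : IsMuMax (center S) :=
  h.isMuMax_of (by
    rw [CentLarge.mu, show centralizer (center S : Set S) = ⊤ from
      top_le_iff.1 fun s _ => mem_centralizer_iff.2 fun z hz => (mem_center_iff.1 hz s).symm,
      Subgroup.card_top, mul_comm])

theorem solved_of_no_crit {F : Set (Sit p S)} (h : Hyp p S) (hF : Fam F)
    (hno : ∀ a ∈ F, ∀ c ∈ F, ∀ L, Inside F L → ∀ v ∈ a.V, ∀ y, Link L v y → y ∈ c.Q) :
    Solved F := by
  classical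
  set X : Set S := (center S : Set S) ∪
    {y | ∃ a ∈ F, ∃ L, Inside F L ∧ ∃ v ∈ a.V, Link L v y} with hX
  set T := closure X with hT
  have hVT : ∀ a ∈ F, a.V ≤ T := fun a ha v hv =>
    Subgroup.subset_closure (Or.inr ⟨a, ha, [], fun s hs => by simp at hs, v, hv, rfl⟩)
  have hTQ : ∀ c ∈ F, T ≤ c.Q := fun c hc => (closure_le _).2 fun y hy => by
    rcases hy with hy | ⟨a, ha, L, hL, v, hv, hy⟩
    · exact c.V_le_Q (c.center_le_V hy)
    · exact hno a ha c hc L hL v hv y hy
  have hstep : ∀ i ∈ F, ∀ (k : i.G) (x : S), x ∈ X → ∃ y ∈ T, i.emb y = k * i.emb x * k⁻¹ := by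
    intro i hi k x hx
    obtain ⟨y, hyQ, hy⟩ := i.exists_conj (hTQ i hi (Subgroup.subset_closure hx)) k
    refine ⟨y, ?_, hy⟩
    rcases hx with hx | ⟨a, ha, L, hL, v, hv, hlink⟩
    · refine hVT i hi ?_
      rw [Sit.mem_V, hy]
      exact (inferInstance : i.Vg.Normal).conj_mem _ (i.center_le_V hx) k
    · refine Subgroup.subset_closure (Or.inr ⟨a, ha, L ++ [⟨i, k⟩], fun s hs => ?_, v, hv,
        link_append.2 ⟨x, hlink, (link_single (s := (⟨i, k⟩ : Step p S))).2 hy⟩⟩)
      rcases List.mem_append.1 hs with hs | hs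
      · exact hL s hs
      · rw [List.mem_singleton.1 hs]; exact hi
  haveI hTchar : T.Characteristic := by
    refine characteristic_iff_map_le.2 fun β => ?_
    rw [hT, MonoidHom.map_closure]
    refine Subgroup.closure_mono ?_
    rintro _ ⟨x, hx | ⟨a, ha, L, hL, v, hv, hlink⟩, rfl⟩
    · exact Or.inl ((characteristic_iff_map_le.1 (inferInstance : (center S).Characteristic) β)
        ⟨x, hx, rfl⟩)
    · refine Or.inr ⟨a.twist β.symm, hF.twist a ha _, L.map (tstep β.symm), fun s hs => ?_, β v, ?_, ?_⟩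
      · obtain ⟨t, ht, rfl⟩ := List.mem_map.1 hs
        exact hF.twist _ (hL t ht) _
      · rw [twist_V, mem_comap]
        simpa using hv
      · exact link_tstep.2 (by simpa using hlink)
  have hnorm : ∀ i ∈ F, (T.map i.emb).Normal := by
    intro i hi
    refine ⟨fun g hg k => ?_⟩
    have : T.map i.emb ≤ (T.map i.emb).comap (MulAut.conj k).toMonoidHom := by
      rw [hT, MonoidHom.map_closure, closure_le]
      rintro _ ⟨x, hx, rfl⟩
      obtain ⟨y, hy, e⟩ := hstep i hi k x hx
      show k * i.emb x * k⁻¹ ∈ ((closure (i.emb '' X) : Subgroup i.G) : Set i.G)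
      rw [← MonoidHom.map_closure, ← e]
      exact ⟨y, hy, rfl⟩
    exact this hg
  -- subgroups of `T` stable under the steps contain every image
  have hall : ∀ P : Subgroup S, center S ≤ P → (∀ a ∈ F, a.V ≤ P) →
      (∀ i ∈ F, ∀ (k : i.G) (x y : S), x ∈ P ⊓ T → i.emb y = k * i.emb x * k⁻¹ → y ∈ P) → T ≤ P := by
    intro P hZ hV hc
    refine (closure_le _).2 ?_
    rintro y (hy | ⟨a, ha, L, hL, v, hv, hlink⟩)
    · exact hZ hy
    induction L using List.reverseRecOn generalizing y with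
    | nil => exact hV a ha ((link_nil.1 hlink) ▸ hv)
    | append_singleton L s ih =>
      have hL' : Inside F L := fun t ht => hL t (List.mem_append_left _ ht)
      obtain ⟨x, hx, hs⟩ := link_append.1 hlink
      refine hc s.1 (hL s (by simp)) s.2 x y ⟨ih hL' hx, ?_⟩ (link_single.1 hs)
      exact Subgroup.subset_closure (Or.inr ⟨a, ha, L, hL', v, hv, hx⟩)
  have hab : T ≤ centralizer (T : Set S) := by
    refine hall _ (center_le_centralizer _) (fun a ha v hv =>
      mem_centralizer_iff.2 fun t ht => (a.Q_comm (hTQ a ha ht) hv).eq) ?_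
    intro i hi k x y hx hy
    refine mem_centralizer_iff.2 fun t ht => i.emb_injective ?_
    obtain ⟨t', ht', e⟩ := (hnorm i hi).conj_mem _ ⟨t, ht, rfl⟩ k⁻¹
    have h1 : Commute (i.emb t') (i.emb x) :=
      (show Commute t' x from mem_centralizer_iff.1 hx.1 t' ht').map i.emb
    rw [e, inv_inv] at h1
    rw [map_mul, map_mul, hy]
    simpa [mul_assoc] using (h1.map (MulAut.conj k).toMonoidHom).eq
  have hmu : IsMuMax T := by
    have hz : center S ∈ {P : Subgroup S | IsMuMax P ∧ P ≤ T} :=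
      ⟨isMuMax_center h, fun z hz => Subgroup.subset_closure (Or.inl hz)⟩
    obtain ⟨P, hZP, ⟨hP, hPT⟩, hmax⟩ := (Set.toFinite _).exists_le_maximal hz
    have habs : ∀ R : Subgroup S, IsMuMax R → R ≤ T → R ≤ P := fun R hR hRT =>
      le_sup_right.trans (hmax ⟨(hP.sup_inf hR).1, sup_le hPT hRT⟩ le_sup_left)
    suffices T ≤ P from le_antisymm this hPT ▸ hP
    refine hall P hZP (fun a ha => habs _ (a.V_muMax h (hF.nc a ha)) (hVT a ha)) ?_
    intro i hi k x y hx hy
    have hiV : i.V ≤ P := habs _ (i.V_muMax h (hF.nc i hi)) (hVT i hi)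
    have hCQ : centralizer (P : Set S) ≤ i.Q :=
      (centralizer_le (SetLike.coe_subset_coe.2 hiV)).trans (i.Q_eq h (hF.nc i hi)).ge
    let cjk : Subgroup S → Subgroup S := fun H =>
      ((H.map i.emb).map (MulAut.conj k).toMonoidHom).comap i.emb
    have hcard : ∀ H : Subgroup S, H ≤ i.Q → Nat.card (cjk H) = Nat.card H := by
      intro H hH
      have e : (cjk H).map i.emb = (H.map i.emb).map (MulAut.conj k).toMonoidHom := by
        refine i.map_emb_comap ?_
        rintro _ ⟨_, ⟨w, hw, rfl⟩, rfl⟩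
        exact i.QP ((inferInstance : (Cfsg.pCore p i.G).Normal).conj_mem _ (hH hw) k)
      rw [← card_map_of_injective i.emb_injective (K := cjk H), e,
        card_map_of_injective (f := (MulAut.conj k).toMonoidHom) (MulAut.conj k).injective,
        card_map_of_injective i.emb_injective]
    have hR : IsMuMax (cjk P) := by
      refine hP.of_le ?_
      unfold CentLarge.mu
      rw [hcard P (hPT.trans (hTQ i hi)), ← hcard _ hCQ]
      refine Nat.mul_le_mul_left _ (card_le_of_le fun w hw => mem_centralizer_iff.2 fun u hu => ?_)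
      obtain ⟨_, ⟨w', hw', rfl⟩, ew⟩ := hw
      obtain ⟨_, ⟨u', hu', rfl⟩, eu⟩ := hu
      refine i.emb_injective ?_
      rw [map_mul, map_mul, ← ew, ← eu]
      exact (((show Commute u' w' from mem_centralizer_iff.1 hw' u' hu').map i.emb).map
        (MulAut.conj k).toMonoidHom).eq
    refine habs _ hR (fun w hw => ?_) ⟨_, ⟨x, hx.1, rfl⟩, hy.symm⟩
    obtain ⟨_, ⟨w', hw', rfl⟩, ew⟩ := hw
    obtain ⟨t, ht, e⟩ := (hnorm i hi).conj_mem _ ⟨w', hPT hw', rfl⟩ k
    exact i.emb_injective (e.trans ew) ▸ ht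
  obtain ⟨hC, hCC⟩ := hmu.centralizer_max
  refine ⟨centralizer (T : Set S), inferInstance, hC, hCC ▸ hab, fun i hi => ?_⟩
  haveI := hnorm i hi
  have e : (centralizer (T : Set S)).map i.emb =
      Cfsg.pCore p i.G ⊓ centralizer ((T.map i.emb : Subgroup i.G) : Set i.G) := by
    have hsub : centralizer (T : Set S) ≤ i.Q :=
      (centralizer_le (SetLike.coe_subset_coe.2 (hVT i hi))).trans (i.Q_eq h (hF.nc i hi)).ge
    refine le_antisymm ?_ ?_
    · rintro _ ⟨s, hs, rfl⟩
      refine ⟨hsub hs, mem_centralizer_iff.2 ?_⟩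
      rintro _ ⟨t, ht, rfl⟩
      rw [← map_mul, ← map_mul, mem_centralizer_iff.1 hs t ht]
    · rintro g ⟨hg1, hg2⟩
      obtain ⟨s, rfl⟩ := i.exists_emb (i.QP hg1)
      refine ⟨s, mem_centralizer_iff.2 fun t ht => i.emb_injective ?_, rfl⟩
      rw [map_mul, map_mul, mem_centralizer_iff.1 hg2 _ ⟨t, ht, rfl⟩]
  rw [e]
  infer_instance

end Cfsg.Agent.PushFamily
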