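import Cfsg.Agent.PushUp.Torus
import Cfsg.Agent.PushUp.Res

/-!
# Natural sections in the rank-one situation, and elements normalizing the Sylow subgroup
-/

set_option autoImplicit false
set_option linter.unusedSectionVars false

universe u

namespace Cfsg.Agent.PushFamily

open Subgroup Matrix Cfsg.Agent.PushRankOne
open Cfsg.Agent.PushUp (cent fix fix_normal exists_fix_notMem mem_cent card_map_mk setup_quot
  natural_of_ff lowerSL lowerSL_val root_val root_pow lower_pow word_val)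
open Cfsg.Agent.Classical (rootHomSL conj_rootHomSL rootHomSL_injective)
open Cfsg.Agent.Offender (cj mem_cj)
open scoped commutatorElement MatrixGroups

variable {G : Type u} [Group G] [Finite G] {p : ℕ} [Fact p.Prime] {S : Sylow p G}
  {M K : Subgroup G}

theorem le_fix {U W : Subgroup G} [hW : W.Normal] (hWU : W ≤ U) :
    W ≤ fix (S : Subgroup G) U W := fun w hw => ⟨hWU hw, fun s _ => by
  rw [commutatorElement_def]
  exact mul_mem (hW.conj_mem w hw s) (inv_mem hw)⟩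

/-- `U / W` is a natural module for a quotient `SL₂` of `G`. -/
def NatSec (F : Type*) [Field F] (p : ℕ) (U W : Subgroup G) : Prop :=
  ∃ (ρ : G →* SL(2, F)) (ω : ↥U → Fin 2 → F), Function.Surjective ρ ∧
    Cfsg.pCore p G ≤ ρ.ker ∧ (∀ u v : ↥U, ω (u * v) = ω u + ω v) ∧ Function.Surjective ω ∧
    (∀ u : ↥U, ω u = 0 ↔ (u : G) ∈ W) ∧
    ∀ (g : G) (u : ↥U) (hgu : g * u * g⁻¹ ∈ U),
      ω ⟨_, hgu⟩ = ((ρ g : SL(2, F)) : Matrix (Fin 2) (Fin 2) F).mulVec (ω u)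

/-- The scalars of the element inducing `diag(-2, -1/2)`. -/
def Scal (S U W : Subgroup G) [W.Normal] (h : G) : Prop :=
  (∀ u ∈ fix S U W, (h * u * h⁻¹) * u ^ 2 ∈ W) ∧ ∀ u ∈ U, (h * u * h⁻¹) ^ 2 * u ∈ fix S U W

section

variable (hs : Setup p S M K)

include hs

theorem QS : Cfsg.pCore p G ≤ (S : Subgroup G) := Core.pCore_le_sylow S

theorem not_S_le_Q : ¬ (S : Subgroup G) ≤ Cfsg.pCore p G := fun hle => by
  refine hs.notNormal ?_
  rw [sup_eq_right.2 (hle.trans (hs.pCore_eq.le.trans inf_le_right))]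
  exact hs.hK

theorem sup_normal_eq_top {N : Subgroup G} [N.Normal] (hN : ¬ N ≤ M) :
    (S : Subgroup G) ⊔ N = ⊤ :=
  hs.eq_top_of_not_le le_sup_left fun hle => hN (le_sup_right.trans hle)

/-- A normal subgroup outside `M` contains `O^p(G)`. -/
theorem residual_le {N : Subgroup G} [N.Normal] (hN : ¬ N ≤ M) : Cfsg.pResidual p G ≤ N := by
  refine Fusion.pResidual_le_of_isPGroup_quotient N ?_
  refine S.2.of_surjective ((QuotientGroup.mk' N).comp (S : Subgroup G).subtype) fun y => ?_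
  obtain ⟨g, rfl⟩ := QuotientGroup.mk'_surjective N y
  obtain ⟨s, hs', n, hn, rfl⟩ :=
    Subgroup.mem_sup_of_normal_right.1 ((sup_normal_eq_top hs hN).ge (mem_top g))
  exact ⟨⟨s, hs'⟩, QuotientGroup.eq.2 (by simpa using hn)⟩

theorem chief_Q {U W : Subgroup G} (hc : Cfsg.IsChiefFactor U W) (hUQ : U ≤ Cfsg.pCore p G) :
    haveI := hc.2.1
    haveI := hc.2.2.1
    Cfsg.pCore p G ≤ cent U W := by
  haveI := hc.2.1
  haveI := hc.2.2.1
  obtain ⟨u, hu, huW⟩ := exists_fix_notMem (S.2.to_le (QS hs)) hc.1 hUQ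
  haveI := fix_normal (Q := Cfsg.pCore p G) (U := U) (W := W)
  have hW : W ≤ fix (Cfsg.pCore p G) U W := fun w hw => ⟨hc.1.le hw, fun s _ => by
    rw [commutatorElement_def]
    exact mul_mem ((inferInstance : W.Normal).conj_mem w hw s) (inv_mem hw)⟩
  rcases hc.2.2.2 _ inferInstance hW (fun x hx => hx.1) with e | e
  · exact absurd (e ▸ hu) huW
  · intro q hq w hw
    exact (e.ge hw : w ∈ fix (Cfsg.pCore p G) U W).2 q hq

theorem chief_trivial {U W : Subgroup G} (hc : Cfsg.IsChiefFactor U W)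
    (hS : ∀ s ∈ (S : Subgroup G), ∀ u ∈ U, ⁅s, u⁆ ∈ W) : ⁅U, (⊤ : Subgroup G)⁆ ≤ W := by
  haveI := hc.2.1
  haveI := hc.2.2.1
  refine PushUp.commutator_le_of_cent (hs.eq_top_of_not_le (H := cent U W) hS fun hle => ?_)
  exact not_S_le_Q hs ((le_inf le_rfl hS).trans (hs.normal_inf_le hle))

variable {F : Type*} [Field F] [Fintype F] {n : ℕ} (hF : Fintype.card F = p ^ n)
  (hq : Nat.card (S : Subgroup G) = p ^ n * Nat.card (Cfsg.pCore p G))

include hF hq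

theorem natSec_of_bound {U W : Subgroup G} [hUn : U.Normal] [hWn : W.Normal] (hWU : W < U)
    (hUQ : U ≤ Cfsg.pCore p G) (hQc : Cfsg.pCore p G ≤ cent U W) (hpow : ∀ u ∈ U, u ^ p ∈ W)
    (hirr : ∀ u ∈ U, (∀ g : G, ⁅g, u⁆ ∈ W) → u ∈ W)
    (hb : Nat.card U * Nat.card (Cfsg.pCore p G) ≤
      Nat.card (S : Subgroup G) * Nat.card (fix (S : Subgroup G) U W)) :
    NatSec F p U W ∧ Nat.card (fix (S : Subgroup G) U W) = p ^ n * Nat.card W ∧
      Nat.card U = p ^ n * (p ^ n * Nat.card W) := by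
  have hWQ : W ≤ Cfsg.pCore p G := hWU.le.trans hUQ
  set π := QuotientGroup.mk' W with hπ
  have hsur : Function.Surjective π := QuotientGroup.mk'_surjective W
  have h0 := setup_quot hs.toSetup₀ W hWQ
  set S' := S.mapSurjective (f := π) hsur with hS'
  have hS'e : (S' : Subgroup (G ⧸ W)) = (S : Subgroup G).map π := rfl
  set Q := Cfsg.pCore p G with hQdef
  have hπ1 : ∀ g, π g = 1 ↔ g ∈ W := fun g => QuotientGroup.eq_one_iff g
  have hπc : ∀ g u : G, Commute (π g) (π u) ↔ ⁅g, u⁆ ∈ W := fun g u => by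
    rw [← hπ1, map_commutatorElement, commutatorElement_eq_one_iff_mul_comm]
    rfl
  have hQ' : Cfsg.pCore p (G ⧸ W) = Q.map π := by
    rw [h0.pCore_eq]
    refine le_antisymm ?_ (le_inf (map_mono (QS hs))
      (map_mono (hs.pCore_eq.le.trans inf_le_right)))
    rintro y ⟨hy, hyK⟩
    obtain ⟨s, hs', rfl⟩ := hy
    obtain ⟨k, hk', e⟩ := hyK
    have h1 : k⁻¹ * s ∈ W := QuotientGroup.eq.1 e
    have h2 := K.mul_mem hk' (hWQ.trans (hs.pCore_eq.le.trans inf_le_right) h1)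
    rw [mul_inv_cancel_left] at h2
    exact ⟨s, hs.pCore_eq.ge ⟨hs', h2⟩, rfl⟩
  set U' := U.map π with hU'
  have hU'n : U'.Normal := Subgroup.Normal.map inferInstance π hsur
  have hab : U' ≤ centralizer (U' : Set (G ⧸ W)) := by
    rintro _ ⟨a, ha, rfl⟩
    refine mem_centralizer_iff.2 ?_
    rintro _ ⟨b, hb, rfl⟩
    exact ((hπc b a).2 (hQc (hUQ hb) a ha)).eq
  have hEA : Cfsg.IsElementaryAbelian p U' := by
    refine Thompson.ea_iff.2 ⟨hab, ?_⟩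
    rintro _ ⟨u, hu, rfl⟩
    rw [← map_pow, hπ1]
    exact hpow u hu
  haveI : (cent U W).Normal := inferInstance
  obtain ⟨z, hz, hzW⟩ := exists_fix_notMem S.2 hWU (hUQ.trans (QS hs))
  have hcentM : cent U W ≤ M := by
    by_contra hle
    refine hzW (hirr z hz.1 fun g => ?_)
    obtain ⟨s, hs', c, hc, rfl⟩ :=
      Subgroup.mem_sup_of_normal_right.1 ((sup_normal_eq_top hs hle).ge (mem_top g))
    have e : ⁅s * c, z⁆ = s * ⁅c, z⁆ * s⁻¹ * ⁅s, z⁆ := by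
      simp only [commutatorElement_def]; group
    rw [e]
    exact mul_mem (hWn.conj_mem _ (hc z hz.1) s) (hz.2 s hs')
  have hC' : ∀ g : G, π g ∈ centralizer (U' : Set (G ⧸ W)) ↔ g ∈ cent U W := by
    intro g
    rw [mem_centralizer_iff]
    constructor
    · exact fun hh u hu => (hπc g u).1 (hh (π u) ⟨u, hu, rfl⟩).symm
    · rintro hh _ ⟨u, hu, rfl⟩
      exact ((hπc g u).2 (hh u hu)).symm.eq
  have hQint : (S' : Subgroup (G ⧸ W)) ⊓ centralizer (U' : Set (G ⧸ W)) = Cfsg.pCore p (G ⧸ W) := by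
    rw [hQ']
    refine le_antisymm ?_ ?_
    · rintro _ ⟨⟨s, hs', rfl⟩, hsc⟩
      exact ⟨s, hs.normal_inf_le hcentM ⟨hs', (hC' s).1 hsc⟩, rfl⟩
    · rintro _ ⟨q, hq', rfl⟩
      exact ⟨⟨q, QS hs hq', rfl⟩, (hC' q).2 (hQc hq')⟩
  have hcentral : ∀ u ∈ U, π u ∈ center (G ⧸ W) → u ∈ W := fun u hu hu' =>
    hirr u hu fun g => (hπc g u).1 (mem_center_iff.1 hu' (π g))
  have hirr' : U' ⊓ center (G ⧸ W) = ⊥ := by
    rw [eq_bot_iff]
    rintro _ ⟨⟨u, hu, rfl⟩, hu'⟩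
    exact mem_bot.2 ((hπ1 u).2 (hcentral u hu hu'))
  have hg : Ground p S' U' (π z) :=
    { hVn := hU'n, hV := hEA, hQ := hQint, hzV := ⟨z, hz.1, rfl⟩
      hzS := by
        refine mem_centralizer_iff.2 ?_
        rintro _ ⟨s, hs', rfl⟩
        exact ((hπc s z).2 (hz.2 s hs')).eq
      hzG := fun hh => hzW (hcentral z hz.1 hh) }
  have hfix : U' ⊓ centralizer ((S' : Subgroup (G ⧸ W)) : Set (G ⧸ W)) =
      (fix (S : Subgroup G) U W).map π := by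
    refine le_antisymm ?_ ?_
    · rintro _ ⟨⟨u, hu, rfl⟩, huS⟩
      exact ⟨u, ⟨hu, fun s hs' => (hπc s u).1 (mem_centralizer_iff.1 huS (π s) ⟨s, hs', rfl⟩)⟩, rfl⟩
    · rintro _ ⟨u, hu, rfl⟩
      refine ⟨⟨u, hu.1, rfl⟩, mem_centralizer_iff.2 ?_⟩
      rintro _ ⟨s, hs', rfl⟩
      exact ((hπc s u).2 (hu.2 s hs')).eq
  have eU := card_map_mk (W := W) (X := U) hWU.le
  have eQ := card_map_mk (W := W) (X := Q) hWQ
  have eS := card_map_mk (W := W) (X := (S : Subgroup G)) (hWQ.trans (QS hs))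
  have ef := card_map_mk (W := W) (X := fix (S : Subgroup G) U W) (le_fix hWU.le)
  have hb' : Nat.card U' * Nat.card (Cfsg.pCore p (G ⧸ W)) ≤ Nat.card (S' : Subgroup (G ⧸ W)) *
      Nat.card (U' ⊓ centralizer ((S' : Subgroup (G ⧸ W)) : Set (G ⧸ W)) : Subgroup (G ⧸ W)) := by
    rw [hfix, hQ', hS'e]
    rw [← eU, ← eQ, ← eS, ← ef] at hb
    refine Nat.le_of_mul_le_mul_right ?_ (Nat.mul_pos (Nat.card_pos (α := W)) (Nat.card_pos (α := W)))
    calc _ = Nat.card (U.map π) * Nat.card W * (Nat.card (Q.map π) * Nat.card W) := by ring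
      _ ≤ _ := hb
      _ = _ := by ring
  have hq' : Nat.card (S' : Subgroup (G ⧸ W)) = p ^ n * Nat.card (Cfsg.pCore p (G ⧸ W)) := by
    rw [hQ', hS'e]
    refine Nat.eq_of_mul_eq_mul_right (Nat.card_pos (α := W)) ?_
    rw [mul_assoc, eS, eQ, hq]
  obtain ⟨ρ, ψ, hWc, hρs, hρk, hact⟩ := natural_of_ff h0 hg hirr' hb' F n hF hq'
  refine ⟨⟨ρ.comp π, fun u => ψ (Additive.ofMul ⟨π u, u, u.2, rfl⟩), hρs.comp hsur, ?_, fun u v => ?_,
    fun f => ?_, fun u => ?_, fun g u hgu => ?_⟩, ?_, ?_⟩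
  · intro q hq''
    rw [MonoidHom.mem_ker, MonoidHom.comp_apply, ← MonoidHom.mem_ker, hρk]
    exact (hC' q).2 (hQc hq'')
  · rw [← map_add]
    rfl
  · obtain ⟨w, hw⟩ := ψ.surjective f
    obtain ⟨u, hu, e⟩ := (Additive.toMul w).2
    refine ⟨⟨u, hu⟩, ?_⟩
    rw [← hw]
    exact congrArg ψ (congrArg Additive.ofMul (Subtype.ext e))
  · rw [AddEquiv.map_eq_zero_iff, ofMul_eq_zero, ← hπ1]
    exact ⟨fun e => congrArg Subtype.val e, fun e => Subtype.ext e⟩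
  · obtain ⟨w, hw, hψ⟩ := hact (π g) ⟨π u, u, u.2, rfl⟩
    have hwe : w = ⟨π (g * u * g⁻¹), _, hgu, rfl⟩ := Subtype.ext (by
      rw [hw]
      show π g * π u * (π g)⁻¹ = π (g * u * g⁻¹)
      rw [map_mul, map_mul, map_inv])
    rw [hwe] at hψ
    exact hψ
  · rw [← ef, ← hfix, hWc]
  · rw [← eU]
    have h1 : Nat.card U' = p ^ n * p ^ n := by
      rw [show Nat.card U' = Nat.card (Additive ↥U') from rfl, Nat.card_congr ψ.toEquiv, Nat.card_fun,
        Nat.card_fin, Nat.card_eq_fintype_card, hF, sq]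
    rw [h1, mul_assoc]

theorem natSec_of_chief {U W : Subgroup G} [hWn : W.Normal] (hc : Cfsg.IsChiefFactor U W)
    (hUQ : U ≤ Cfsg.pCore p G) (hnc : ¬ ⁅U, (⊤ : Subgroup G)⁆ ≤ W)
    (hb : Nat.card U * Nat.card (Cfsg.pCore p G) ≤
      Nat.card (S : Subgroup G) * Nat.card (fix (S : Subgroup G) U W)) :
    NatSec F p U W ∧ Nat.card (fix (S : Subgroup G) U W) = p ^ n * Nat.card W ∧
      Nat.card U = p ^ n * (p ^ n * Nat.card W) := by
  haveI hUn := hc.2.1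
  have hQc := chief_Q hs hc hUQ
  refine natSec_of_bound hs hF hq hc.1 hUQ hQc ?_ ?_ hb
  · set π := QuotientGroup.mk' W with hπ
    have hπ1 : ∀ g, π g = 1 ↔ g ∈ W := fun g => QuotientGroup.eq_one_iff g
    have hcomm : ∀ a ∈ U, ∀ b ∈ U, Commute (π a) (π b) := fun a ha b hb' =>
      commutatorElement_eq_one_iff_mul_comm.1
        (by rw [← map_commutatorElement, hπ1]; exact hQc (hUQ ha) b hb')
    let N : Subgroup G :=
      { carrier := {u | u ∈ U ∧ π u ^ p = 1}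
        one_mem' := ⟨one_mem _, by rw [map_one, one_pow]⟩
        mul_mem' := fun {a b} ha hb' => ⟨mul_mem ha.1 hb'.1, by
          rw [map_mul, (hcomm a ha.1 b hb'.1).mul_pow, ha.2, hb'.2, one_mul]⟩
        inv_mem' := fun {a} ha => ⟨inv_mem ha.1, by rw [map_inv, inv_pow, ha.2, inv_one]⟩ }
    haveI : N.Normal := ⟨fun u hu g => ⟨hUn.conj_mem u hu.1 g, by
      rw [map_mul, map_mul, map_inv, conj_pow, hu.2, mul_one, mul_inv_cancel]⟩⟩
    have hWN : W ≤ N := fun w hw => ⟨hc.1.le hw, by rw [(hπ1 w).2 hw, one_pow]⟩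
    rcases hc.2.2.2 N inferInstance hWN (fun u hu => hu.1) with e | e
    · exfalso
      obtain ⟨u, hu, huW⟩ := SetLike.exists_of_lt hc.1
      obtain ⟨k, hk'⟩ : ∃ k : ℕ, π u ^ p ^ k = 1 := by
        obtain ⟨k, hk'⟩ := S.2 ⟨u, QS hs (hUQ hu)⟩
        have h1 : u ^ p ^ k = 1 := congrArg Subtype.val hk'
        exact ⟨k, by rw [← map_pow, h1, map_one]⟩
      induction k generalizing u with
      | zero => exact huW ((hπ1 u).1 (by simpa using hk'))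
      | succ k ih =>
        by_cases hp : π u ^ p = 1
        · exact huW (e.le (show u ∈ N from ⟨hu, hp⟩))
        · refine ih (u ^ p) (pow_mem hu p) (fun hW => hp ?_) ?_
          · rw [← map_pow]; exact (hπ1 _).2 hW
          · rw [map_pow, ← pow_mul, ← pow_succ']; exact hk'
    · intro u hu
      rw [← hπ1, map_pow]
      exact (e.ge hu : u ∈ N).2
  · intro u hu hu'
    haveI := fix_normal (Q := (⊤ : Subgroup G)) (U := U) (W := W)
    have hW : W ≤ fix ⊤ U W := fun w hw => ⟨hc.1.le hw, fun s _ => by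
      rw [commutatorElement_def]
      exact mul_mem (hWn.conj_mem w hw s) (inv_mem hw)⟩
    have hmem : u ∈ fix ⊤ U W := ⟨hu, fun g _ => hu' g⟩
    rcases hc.2.2.2 _ inferInstance hW (fun x hx => hx.1) with e | e
    · exact e ▸ hmem
    · exact absurd (commutator_le.2 fun w hw g _ => by
        rw [← commutatorElement_inv]
        exact inv_mem ((e.ge hw : w ∈ fix ⊤ U W).2 g (mem_top g))) hnc

omit hq hF

/-- A conjugation preserving the image of `S` can be corrected to normalize `S`. -/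
theorem exists_lift {ρ : G →* SL(2, F)} {g : G}
    (hg : ∀ t ∈ (S : Subgroup G), ∃ t' ∈ (S : Subgroup G), ρ (g * t * g⁻¹) = ρ t') :
    ∃ k ∈ ρ.ker, ∀ t ∈ (S : Subgroup G), (k * g) * t * (k * g)⁻¹ ∈ (S : Subgroup G) := by
  set H := (S : Subgroup G) ⊔ ρ.ker with hH
  have hgH : ((g • S : Sylow p G) : Subgroup G) ≤ H := by
    rw [Sylow.coe_subgroup_smul]
    rintro _ ⟨t, ht, rfl⟩
    obtain ⟨t', ht', e⟩ := hg t ht
    have h1 : t'⁻¹ * (g * t * g⁻¹) ∈ ρ.ker := by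
      rw [MonoidHom.mem_ker, map_mul, map_inv, e, inv_mul_cancel]
    have := mul_mem (mem_sup_left (T := ρ.ker) ht') (mem_sup_right (S := (S : Subgroup G)) h1)
    rwa [mul_inv_cancel_left] at this
  obtain ⟨⟨y, hy⟩, hy'⟩ := MulAction.exists_smul_eq ↥H ((g • S).subtype hgH)
    (S.subtype (le_sup_left : (S : Subgroup G) ≤ H))
  obtain ⟨r, hr, k, hk, rfl⟩ := Subgroup.mem_sup_of_normal_right.1 hy
  refine ⟨k, hk, fun t ht => ?_⟩
  have hm : g * t * g⁻¹ ∈ ((g • S : Sylow p G) : Subgroup G) := by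
    rw [Sylow.coe_subgroup_smul]
    exact ⟨t, ht, rfl⟩
  have h1 : (⟨g * t * g⁻¹, hgH hm⟩ : ↥H) ∈
      (((g • S).subtype hgH : Sylow p ↥H) : Subgroup ↥H) := hm
  have h2 : (MulAut.conj (⟨r * k, hy⟩ : ↥H)) ⟨g * t * g⁻¹, hgH hm⟩ ∈
      ((S.subtype (le_sup_left : (S : Subgroup G) ≤ H)) : Subgroup ↥H) := by
    rw [← hy', Sylow.coe_subgroup_smul]
    exact ⟨_, h1, rfl⟩
  have h3 : r * k * (g * t * g⁻¹) * (r * k)⁻¹ ∈ (S : Subgroup G) := h2
  have h4 := mul_mem (mul_mem (inv_mem hr) h3) hr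
  rw [show r⁻¹ * (r * k * (g * t * g⁻¹) * (r * k)⁻¹) * r = (k * g) * t * (k * g)⁻¹ by group] at h4
  exact h4

variable [CharP F p]

/-- Coordinates adapted to `S` and a second Sylow subgroup. -/
theorem NatSec.adapted {U W : Subgroup G} [hUn : U.Normal] [hWn : W.Normal] (hN : NatSec F p U W)
    {x : G} (hx : x ∉ M) :
    ∃ (ρ : G →* SL(2, F)) (ω : ↥U → Fin 2 → F), Function.Surjective ρ ∧
      Cfsg.pCore p G ≤ ρ.ker ∧ (∀ u v : ↥U, ω (u * v) = ω u + ω v) ∧ Function.Surjective ω ∧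
      (∀ u : ↥U, ω u = 0 ↔ (u : G) ∈ W) ∧
      (∀ (g : G) (u : ↥U) (hgu : g * u * g⁻¹ ∈ U),
        ω ⟨_, hgu⟩ = ((ρ g : SL(2, F)) : Matrix (Fin 2) (Fin 2) F).mulVec (ω u)) ∧
      (∀ s ∈ (S : Subgroup G), ∃ a : F, ρ s = rootHomSL (Multiplicative.ofAdd a)) ∧
      (∀ a : F, ∃ s ∈ (S : Subgroup G), ρ s = rootHomSL (Multiplicative.ofAdd a)) ∧
      (∀ s ∈ cj x (S : Subgroup G), ∃ b : F, ρ s = lowerSL b) ∧
      (∀ b : F, ∃ s ∈ cj x (S : Subgroup G), ρ s = lowerSL b) ∧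
      ∀ u : ↥U, (u : G) ∈ fix (S : Subgroup G) U W ↔ ω u 1 = 0 := by
  obtain ⟨ρ₀, ω₀, hρ₀, hQ₀, hmul, hsur, h0, hact⟩ := hN
  obtain ⟨r, hr, hrk, ⟨m, hm⟩, hrS, hrS', hrX, hrX'⟩ := PushUp.exists_coord hs.toSetup₀ hρ₀ hQ₀ hx
  let ω : ↥U → Fin 2 → F := fun u => (m.1).mulVec (ω₀ u)
  have hωmul : ∀ u v : ↥U, ω (u * v) = ω u + ω v := fun u v => by
    show (m.1).mulVec _ = _
    rw [hmul, Matrix.mulVec_add]
  have hinv : ∀ f : Fin 2 → F, ((m⁻¹ : SL(2, F)) : Matrix (Fin 2) (Fin 2) F).mulVec ((m.1).mulVec f) = f :=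
    fun f => by
      rw [Matrix.mulVec_mulVec, ← Matrix.SpecialLinearGroup.coe_mul, inv_mul_cancel,
        Matrix.SpecialLinearGroup.coe_one, Matrix.one_mulVec]
  have hωsur : Function.Surjective ω := fun f => by
    obtain ⟨u, hu⟩ := hsur (((m⁻¹ : SL(2, F)) : Matrix (Fin 2) (Fin 2) F).mulVec f)
    refine ⟨u, ?_⟩
    show (m.1).mulVec _ = _
    rw [hu, Matrix.mulVec_mulVec, ← Matrix.SpecialLinearGroup.coe_mul, mul_inv_cancel,
      Matrix.SpecialLinearGroup.coe_one, Matrix.one_mulVec]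
  have hω0 : ∀ u : ↥U, ω u = 0 ↔ (u : G) ∈ W := fun u => by
    rw [← h0]
    refine ⟨fun e => ?_, fun e => ?_⟩
    · rw [← hinv (ω₀ u), show (m.1).mulVec (ω₀ u) = 0 from e, Matrix.mulVec_zero]
    · show (m.1).mulVec _ = _
      rw [e, Matrix.mulVec_zero]
  have hωact : ∀ (g : G) (u : ↥U) (hgu : g * u * g⁻¹ ∈ U),
      ω ⟨_, hgu⟩ = ((r g : SL(2, F)) : Matrix (Fin 2) (Fin 2) F).mulVec (ω u) := fun g u hgu => by
    show (m.1).mulVec _ = _
    rw [hact, hm, Matrix.mulVec_mulVec, Matrix.mulVec_mulVec, ← Matrix.SpecialLinearGroup.coe_mul,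
      ← Matrix.SpecialLinearGroup.coe_mul, inv_mul_cancel_right]
  refine ⟨r, ω, hr, hrk.symm ▸ hQ₀, hωmul, hωsur, hω0, hωact, hrS, hrS', hrX, hrX', fun u => ?_⟩
  have hconj : ∀ t : G, t * u * t⁻¹ ∈ U := fun t => hUn.conj_mem u u.2 t
  have hdiff : ∀ t : G, ω ⟨_, hconj t⟩ = ω u ↔ ⁅t, (u : G)⁆ ∈ W := fun t => by
    have h4 := hωmul (⟨_, hconj t⟩ * u⁻¹) u
    rw [inv_mul_cancel_right] at h4
    constructor
    · intro e
      rw [e] at h4
      exact (hω0 _).1 (add_eq_right.1 h4.symm)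
    · intro e
      rw [h4, (hω0 (⟨_, hconj t⟩ * u⁻¹)).2 e, zero_add]
  constructor
  · intro hu
    obtain ⟨t, ht, hta⟩ := hrS' 1
    have h1 := hωact t u (hconj t)
    rw [hta, root_val, (hdiff t).2 (hu.2 t ht)] at h1
    have h3 := congrFun h1 0
    simp [Matrix.mulVec, dotProduct, Fin.sum_univ_two] at h3
    linear_combination h3
  · intro h1
    refine ⟨u.2, fun t ht => (hdiff t).1 ?_⟩
    obtain ⟨a, ha⟩ := hrS t ht
    rw [hωact t u (hconj t), ha, root_val]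
    funext i
    fin_cases i <;> simp [Matrix.mulVec, dotProduct, Fin.sum_univ_two, h1]

/-- The fixed points are commutators modulo `W`. -/
theorem NatSec.fix_le {U W : Subgroup G} [hUn : U.Normal] [hWn : W.Normal] (hN : NatSec F p U W) :
    fix (S : Subgroup G) U W ≤ ⁅U, (S : Subgroup G)⁆ ⊔ W := by
  obtain ⟨x, hx⟩ := PushUp.exists_notMem' hs.toSetup₀
  obtain ⟨ρ, ω, -, -, hmul, hsur, h0, hact, -, hS', -, -, hfix⟩ := NatSec.adapted hs hN hx
  intro u hu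
  have hu1 := (hfix ⟨u, hu.1⟩).1 hu
  obtain ⟨t, ht, hta⟩ := hS' (ω ⟨u, hu.1⟩ 0)
  obtain ⟨v, hv⟩ := hsur ![0, 1]
  have hcU : ⁅t, (v : G)⁆ ∈ U := by
    rw [commutatorElement_def]
    exact U.mul_mem (hUn.conj_mem v v.2 t) (inv_mem v.2)
  have hω : ω ⟨_, hcU⟩ = ω ⟨u, hu.1⟩ := by
    have e : (⟨_, hcU⟩ : ↥U) * v = ⟨t * v * t⁻¹, hUn.conj_mem v v.2 t⟩ :=
      Subtype.ext (by simp [commutatorElement_def])
    have h1 := hmul ⟨_, hcU⟩ v
    rw [e, hact, hta, root_val, hv] at h1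
    funext i
    have h2 := congrFun h1 i
    fin_cases i
    · simp [Matrix.mulVec, dotProduct, Fin.sum_univ_two] at h2 ⊢
      linear_combination -h2
    · simp [Matrix.mulVec, dotProduct, Fin.sum_univ_two] at h2 ⊢
      rw [hu1]
      linear_combination h2
  have h3 : (⟨_, hcU⟩⁻¹ * ⟨u, hu.1⟩ : ↥U).1 ∈ W := by
    refine (h0 _).1 ?_
    have h4 := hmul ⟨_, hcU⟩ (⟨_, hcU⟩⁻¹ * ⟨u, hu.1⟩)
    rw [mul_inv_cancel_left, hω] at h4
    exact add_eq_left.1 h4.symm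
  have h5 : ⁅t, (v : G)⁆ ∈ ⁅U, (S : Subgroup G)⁆ := by
    rw [commutator_comm]
    exact commutator_mem_commutator ht v.2
  have h6 := mul_mem (mem_sup_left (T := W) h5) (mem_sup_right (S := ⁅U, (S : Subgroup G)⁆) h3)
  have e2 : ⁅t, (v : G)⁆ * (⟨_, hcU⟩⁻¹ * ⟨u, hu.1⟩ : ↥U).1 = u :=
    mul_inv_cancel_left ⁅t, (v : G)⁆ u
  rwa [e2] at h6

include hF in
/-- If `|F| > 2`, some element normalizing `S` moves every noncentral fixed point. -/
theorem NatSec.exists_move {U W : Subgroup G} [hUn : U.Normal] [hWn : W.Normal]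
    (hN : NatSec F p U W) (h3 : 2 < p ^ n) :
    ∃ h : G, (∀ t ∈ (S : Subgroup G), h * t * h⁻¹ ∈ (S : Subgroup G)) ∧
      ∀ u ∈ fix (S : Subgroup G) U W, u ∉ W → ⁅h, u⁆ ∉ W := by
  classical
  obtain ⟨l, hl0, hl1⟩ : ∃ l : F, l ≠ 0 ∧ l ≠ 1 := by
    by_contra hcon
    push Not at hcon
    have hle : Fintype.card F ≤ ({0, 1} : Finset F).card := Finset.card_le_card fun a _ => by
      by_cases ha : a = 0
      · simp [ha]
      · simp [hcon a ha]
    have := hle.trans Finset.card_le_two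
    omega
  obtain ⟨x, hx⟩ := PushUp.exists_notMem' hs.toSetup₀
  obtain ⟨ρ, ω, hρ, -, hmul, -, h0, hact, hS, hS', -, -, hfix⟩ := NatSec.adapted hs hN hx
  obtain ⟨g, hg⟩ := hρ ⟨!![l, 0; 0, l⁻¹], by simp [Matrix.det_fin_two, hl0]⟩
  have hgv : ((ρ g : SL(2, F)) : Matrix (Fin 2) (Fin 2) F) = !![l, 0; 0, l⁻¹] := by rw [hg]
  obtain ⟨k, hk, hkS⟩ := exists_lift hs (ρ := ρ) (g := g) fun t ht => by
    obtain ⟨a, ha⟩ := hS t ht
    obtain ⟨t', ht', ha'⟩ := hS' (l ^ 2 * a)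
    refine ⟨t', ht', ?_⟩
    rw [map_mul, map_mul, map_inv, ha, ha',
      Classical.conj_rootHomSL_mem_of_upper (by rw [hgv]; simp), hgv, toAdd_ofAdd]
    congr 2
    simp
    ring
  refine ⟨k * g, hkS, fun u hu huW hc => huW ?_⟩
  have hgu : (k * g) * u * (k * g)⁻¹ ∈ U := hUn.conj_mem u hu.1 _
  have h1 : ω ⟨_, hgu⟩ = ω ⟨u, hu.1⟩ := by
    have h4 := hmul (⟨_, hgu⟩ * ⟨u, hu.1⟩⁻¹) ⟨u, hu.1⟩
    rw [inv_mul_cancel_right, (h0 _).2 (show ((⟨_, hgu⟩ * ⟨u, hu.1⟩⁻¹ : ↥U) : G) ∈ W from hc),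
      zero_add] at h4
    exact h4
  rw [hact (k * g) ⟨u, hu.1⟩ hgu, map_mul, MonoidHom.mem_ker.1 hk, one_mul, hgv] at h1
  refine (h0 ⟨u, hu.1⟩).1 ?_
  have hu1 := (hfix ⟨u, hu.1⟩).1 hu
  have h2 : (l - 1) * ω ⟨u, hu.1⟩ 0 = 0 := by
    have h2 := congrFun h1 0
    simp only [Matrix.mulVec, dotProduct, Fin.sum_univ_two] at h2
    simp at h2
    linear_combination h2
  funext i
  fin_cases i
  · exact (mul_eq_zero.1 h2).resolve_left (sub_ne_zero.2 hl1)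
  · exact hu1

theorem word_diag {ρ : G →* SL(2, F)} {a b : F} (hab : a * b = -1) {k : ℕ}
    (hk : (2 : F) * (k : F) = 1) {s q : G} (ha : ρ s = rootHomSL (Multiplicative.ofAdd a))
    (hb : ρ q = lowerSL b) :
    ((ρ ((s ^ 2 * q ^ k * s ^ 2) * (s * q * s)) : SL(2, F)) : Matrix (Fin 2) (Fin 2) F) =
      !![-2, 0; 0, -(k : F)] := by
  rw [map_mul, Matrix.SpecialLinearGroup.coe_mul, map_mul, map_mul, map_mul, map_mul, map_pow,
    map_pow, ha, hb, root_pow, lower_pow, word_val hab,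
    word_val (a := ((2 : ℕ) : F) * a) (b := (k : F) * b)
      (by push_cast; linear_combination (a * b) * hk + hab)]
  ext i j
  fin_cases i <;> fin_cases j <;> simp [Matrix.mul_apply, Fin.sum_univ_two]
  · linear_combination (2 : F) * hab
  · linear_combination (k : F) * hab

/-- In any coordinates adapted to `x`, the pair `(s, q)` of a Weyl word stays one. -/
theorem word_pair {ρ : G →* SL(2, F)} (hρ : Function.Surjective ρ) {x : G} {s q : G}
    (hs' : s ∈ (S : Subgroup G)) (hsQ : s ∉ Cfsg.pCore p G) (hq' : q ∈ cj x (S : Subgroup G))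
    (hP : ∃ y ∈ cj x (S : Subgroup G), y⁻¹ * ((s * q * s) * s * (s * q * s)⁻¹) ∈ ρ.ker)
    (hS : ∀ s ∈ (S : Subgroup G), ∃ a : F, ρ s = rootHomSL (Multiplicative.ofAdd a))
    (hX : ∀ s ∈ cj x (S : Subgroup G), ∃ b : F, ρ s = lowerSL b) :
    ∃ a b : F, a * b = -1 ∧ ρ s = rootHomSL (Multiplicative.ofAdd a) ∧ ρ q = lowerSL b := by
  obtain ⟨a, ha⟩ := hS s hs'
  obtain ⟨b, hb⟩ := hX q hq'
  refine ⟨a, b, ?_, ha, hb⟩
  have ha0 : a ≠ 0 := by
    intro e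
    refine hsQ (PushUp.inf_ker_le hs.toSetup₀ hρ ⟨hs', ?_⟩)
    show s ∈ ρ.ker
    rw [MonoidHom.mem_ker, ha, e]
    exact map_one _
  obtain ⟨y, hy, hyk⟩ := hP
  obtain ⟨d, hd⟩ := hX y hy
  have h1 : ρ ((s * q * s) * s * (s * q * s)⁻¹) = lowerSL d := by
    rw [MonoidHom.mem_ker, map_mul, map_inv, inv_mul_eq_one] at hyk
    rw [← hyk, hd]
  rw [map_mul, map_mul, map_inv, map_mul, map_mul, ha, hb] at h1
  have h2 := congrArg (fun z : SL(2, F) => z.1 0 1) h1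
  simp only [conj_rootHomSL, lowerSL_val] at h2
  simp [Matrix.SpecialLinearGroup.coe_mul, root_val, lowerSL_val, Matrix.mul_apply,
    Fin.sum_univ_two, ha0] at h2
  linear_combination h2

/-- One element with prescribed scalars on two natural sections, normalizing `S`. -/
theorem exists_torus (hp2 : p ≠ 2) {U₁ W₁ U₂ W₂ : Subgroup G} [U₁.Normal] [W₁.Normal]
    [U₂.Normal] [W₂.Normal] (h₁ : NatSec F p U₁ W₁) (h₂ : NatSec F p U₂ W₂) :
    ∃ h : G, (∀ t ∈ (S : Subgroup G), h * t * h⁻¹ ∈ (S : Subgroup G)) ∧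
      (∀ t ∈ (S : Subgroup G), (t ^ 4)⁻¹ * (h * t * h⁻¹) ∈ Cfsg.pCore p G) ∧
      Scal (S : Subgroup G) U₁ W₁ h ∧ Scal (S : Subgroup G) U₂ W₂ h := by
  classical
  obtain ⟨x, hx⟩ := PushUp.exists_notMem' hs.toSetup₀
  set k := (p + 1) / 2 with hkdef
  have hk : (2 : F) * (k : F) = 1 := by
    obtain ⟨j, hj⟩ := (Fact.out : p.Prime).odd_of_ne_two hp2
    have : 2 * k = p + 1 := by omega
    have h1 : ((2 * k : ℕ) : F) = ((p + 1 : ℕ) : F) := by rw [this]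
    push_cast at h1
    rwa [CharP.cast_eq_zero F p, zero_add] at h1
  obtain ⟨ρ, ω, hρ, hQρ, hmul, -, h0, hact, hS, hS', hX, hX', hfix⟩ := NatSec.adapted hs h₁ hx
  obtain ⟨s, hs', hrs⟩ := hS' 1
  obtain ⟨q, hq'', hrq⟩ := hX' (-1)
  have hsQ : s ∉ Cfsg.pCore p G := fun hsQ => by
    have h1 := MonoidHom.mem_ker.1 (hQρ hsQ)
    rw [hrs] at h1
    have := congrArg (fun z : SL(2, F) => z.1 0 1) h1
    simp [root_val] at this
  have hP : ∃ y ∈ cj x (S : Subgroup G), y⁻¹ * ((s * q * s) * s * (s * q * s)⁻¹) ∈ ρ.ker := by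
    obtain ⟨y, hy, hry⟩ := hX' (-1)
    refine ⟨y, hy, ?_⟩
    rw [MonoidHom.mem_ker, map_mul, map_inv, inv_mul_eq_one, hry, map_mul, map_mul, map_inv,
      map_mul, map_mul, hrs, hrq]
    refine Subtype.ext ?_
    rw [conj_rootHomSL, lowerSL_val, word_val (by ring)]
    simp
  set h₀ := (s ^ 2 * q ^ k * s ^ 2) * (s * q * s) with hh₀
  have hh := word_diag hs (ρ := ρ) (a := 1) (b := -1) (by ring) hk hrs hrq
  rw [← hh₀] at hh
  have hup : ((ρ h₀ : SL(2, F)) : Matrix (Fin 2) (Fin 2) F) 1 0 = 0 := by rw [hh]; simp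
  have h4 : ∀ t ∈ (S : Subgroup G), ρ (h₀ * t * h₀⁻¹) = ρ (t ^ 4) := by
    intro t ht
    obtain ⟨a, ha⟩ := hS t ht
    rw [map_mul, map_mul, map_inv, map_pow, ha, root_pow]
    refine Subtype.ext ?_
    rw [conj_rootHomSL, hh, root_val]
    simp
    ring
  obtain ⟨c, hc, hcS⟩ := exists_lift hs (ρ := ρ) (g := h₀)
    fun t ht => ⟨t ^ 4, pow_mem ht 4, h4 t ht⟩
  have key : ∀ {U W : Subgroup G} [U.Normal] [W.Normal] (ρ' : G →* SL(2, F)) (ω' : ↥U → Fin 2 → F),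
      (∀ u v : ↥U, ω' (u * v) = ω' u + ω' v) → (∀ u : ↥U, ω' u = 0 ↔ (u : G) ∈ W) →
      (∀ (g : G) (u : ↥U) (hgu : g * u * g⁻¹ ∈ U),
        ω' ⟨_, hgu⟩ = ((ρ' g : SL(2, F)) : Matrix (Fin 2) (Fin 2) F).mulVec (ω' u)) →
      (∀ u : ↥U, (u : G) ∈ fix (S : Subgroup G) U W ↔ ω' u 1 = 0) →
      c ∈ ρ'.ker → ((ρ' h₀ : SL(2, F)) : Matrix (Fin 2) (Fin 2) F) = !![-2, 0; 0, -(k : F)] →
      Scal (S : Subgroup G) U W (c * h₀) := by
    intro U W _ _ ρ' ω' hmul' h0' hact' hfix' hc' hh'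
    have hv : ((ρ' (c * h₀) : SL(2, F)) : Matrix (Fin 2) (Fin 2) F) = !![-2, 0; 0, -(k : F)] := by
      rw [map_mul, MonoidHom.mem_ker.1 hc', one_mul, hh']
    refine ⟨fun u hu => ?_, fun u hu => ?_⟩
    · have hm : (c * h₀) * u * (c * h₀)⁻¹ ∈ U := (inferInstance : U.Normal).conj_mem u hu.1 _
      refine (h0' (⟨_, hm⟩ * ⟨u, hu.1⟩ ^ 2)).1 ?_
      rw [pow_two, hmul', hmul', hact' (c * h₀) ⟨u, hu.1⟩ hm, hv]
      have h1 := (hfix' ⟨u, hu.1⟩).1 hu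
      funext i
      fin_cases i <;> simp [Matrix.mulVec, dotProduct, Fin.sum_univ_two, h1]
      ring
    · have hm : (c * h₀) * u * (c * h₀)⁻¹ ∈ U := (inferInstance : U.Normal).conj_mem u hu _
      refine (hfix' (⟨_, hm⟩ ^ 2 * ⟨u, hu⟩)).2 ?_
      rw [pow_two, hmul', hmul', hact' (c * h₀) ⟨u, hu⟩ hm, hv]
      simp [Matrix.mulVec, dotProduct, Fin.sum_univ_two]
      linear_combination (-(ω' ⟨u, hu⟩ 1)) * hk
  refine ⟨c * h₀, hcS, fun t ht => ?_, key ρ ω hmul h0 hact hfix hc hh, ?_⟩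
  · refine PushUp.inf_ker_le hs.toSetup₀ hρ
      ⟨(S : Subgroup G).mul_mem ((S : Subgroup G).inv_mem (pow_mem ht 4)) (hcS t ht), ?_⟩
    show (t ^ 4)⁻¹ * (c * h₀ * t * (c * h₀)⁻¹) ∈ ρ.ker
    rw [MonoidHom.mem_ker, map_mul, map_inv, inv_mul_eq_one,
      show c * h₀ * t * (c * h₀)⁻¹ = c * (h₀ * t * h₀⁻¹) * c⁻¹ by group, map_mul, map_mul ρ c,
      map_inv, MonoidHom.mem_ker.1 hc, one_mul, inv_one, mul_one, h4 t ht]
  · obtain ⟨ρ', ω', hρ', hQρ', hmul', -, h0', hact', hS₂, -, hX₂, -, hfix'⟩ :=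
      NatSec.adapted hs h₂ hx
    have hker := PushUp.ker_eq_ker hs.toSetup₀ hρ hρ' hQρ hQρ'
    rw [hker] at hP hc
    obtain ⟨a, b, hab, ha, hb⟩ := word_pair hs hρ' hs' hsQ hq'' hP hS₂ hX₂
    exact key ρ' ω' hmul' h0' hact' hfix' hc (word_diag hs hab hk ha hb)

end

end Cfsg.Agent.PushFamily
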