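import Cfsg.Agent.PushFamily.Reduce

/-!
# The existence theorem for pairs of characteristic pushing-up subgroups
-/

set_option autoImplicit false
set_option linter.unusedSectionVars false

universe u

namespace Cfsg.Agent.PushFamily

open Subgroup
open Cfsg.Agent.CentLarge (IsMuMax)
open scoped commutatorElement Pointwise

variable {S : Type u} [Group S] [Finite S] {p : ℕ} [Fact p.Prime]

theorem works_of_sit {S₁ S₂ : Subgroup S}
    (h : ∀ i : Sit p S, S₁ ≤ i.Zc ∨ (S₂.map i.emb).Normal) : Works p S₁ S₂ := by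
  intro G _ _ P e hE
  obtain ⟨P₀, M, K, e₀, hs, psl, rfl, hemb⟩ := exists_sit e hE
  set i : Sit p S := ⟨G, P₀, e₀, M, K, hs, psl⟩
  rcases h i with h1 | h1
  · refine Or.inl (normal_of_central ?_)
    rw [← hemb]
    exact map_le_iff_le_comap.2 h1
  · refine Or.inr ?_
    rw [← hemb]
    exact h1

/-- An abelian `p`-group has no situation. -/
theorem works_comm (hcomm : IsMulCommutative S) (S₁ S₂ : Subgroup S) : Works p S₁ S₂ := by
  intro G _ _ P e hE
  obtain ⟨P₀, M, K, e₀, hs, psl, rfl, hemb⟩ := exists_sit e hE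
  refine absurd ?_ (not_S_le_Q hs)
  refine le_trans ?_ hs.hC
  intro x hx
  refine mem_centralizer_iff.2 fun y hy => ?_
  obtain ⟨a, ha⟩ := e.surjective ⟨x, hx⟩
  obtain ⟨b, hb⟩ := e.surjective ⟨y, QS hs hy⟩
  have h1 := congrArg Subtype.val (congrArg e (hcomm.is_comm.comm b a))
  rw [map_mul, map_mul, ha, hb] at h1
  exact h1

theorem maxCP_sub {S₂ : Subgroup S} (h : Cfsg.IsCentrallyLarge S₂) :
    Cfsg.maxCentralProduct ↥S₂ = Cfsg.maxCentralProduct S := by
  have hfin : ∀ (T : Type u) [Group T] [Finite T],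
      {k : ℕ | ∃ R : Subgroup T, Nat.card R * Nat.card (center ↥R) = k}.Finite := fun T _ _ =>
    Set.finite_range (fun R : Subgroup T => Nat.card R * Nat.card (center ↥R))
  unfold Cfsg.IsCentrallyLarge at h
  refine le_antisymm (csSup_le' ?_) ?_
  · rintro k ⟨R, rfl⟩
    refine le_csSup (hfin S).bddAbove ⟨R.map S₂.subtype, ?_⟩
    rw [card_map_of_injective S₂.subtype_injective, ← Nat.card_congr (Subgroup.centerCongr
      (R.equivMapOfInjective S₂.subtype S₂.subtype_injective)).toEquiv]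
  · rw [← h]
    refine le_csSup (hfin ↥S₂).bddAbove ⟨⊤, ?_⟩
    rw [Subgroup.card_top, Nat.card_congr (Subgroup.centerCongr Subgroup.topEquiv).toEquiv]

theorem maxCP_Jt (hJt : Jt S = ⊤) {S₂ : Subgroup S} (h : Cfsg.IsCentrallyLarge S₂) :
    Cfsg.maxCentralProduct ↥S₂ = Cfsg.maxCentralProduct ↥(Jt S) := by
  rw [maxCP_sub h, hJt]
  exact maxCP_iso Subgroup.topEquiv

/-- Either a pair exists, or `S` is in the exceptional class. -/
theorem master [Nontrivial S] (hS : IsPGroup p S) :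
    (∃ S₁ S₂ : Subgroup S, Pr p S S₁ S₂ ∧
        Cfsg.maxCentralProduct ↥S₂ = Cfsg.maxCentralProduct ↥(Jt S)) ∨
      (Jt S = ⊤ ∧ ¬ IsMulCommutative S ∧ Hyp p S ∧
        (∀ Q : Subgroup S, Cfsg.IsMinimalCentrallyLarge Q → Q ∈ Cfsg.maxAbelianSubgroups S) ∧
        s0 p S = ⊥) := by
  haveI := hS.isNilpotent
  haveI := hS.center_nontrivial
  by_cases hJt : Jt S = ⊤
  swap
  · refine Or.inl ⟨_, _, case_zj hS fun e => hJt (top_le_iff.1 ?_), rfl⟩
    exact le_centralizer_iff.1 (commutator_eq_bot_iff_le_centralizer.1 e)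
  by_cases hcomm : IsMulCommutative S
  · have hc : center S = ⊤ := top_le_iff.1 fun x _ => mem_center_iff.2 fun y => hcomm.is_comm.comm y x
    refine Or.inl ⟨⊤, ⊤, Pr.of_top hJt top_ne_bot top_ne_bot Subgroup.topCharacteristic
      Subgroup.topCharacteristic hc.ge (works_comm hcomm _ _), maxCP_Jt hJt ?_⟩
    unfold Cfsg.IsCentrallyLarge
    refine le_antisymm (le_csSup (Set.Finite.bddAbove
      (Set.finite_range (fun R : Subgroup S => Nat.card R * Nat.card (center ↥R)))) ⟨⊤, rfl⟩)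
      (csSup_le' ?_)
    rintro k ⟨R, rfl⟩
    rw [Nat.card_congr (Subgroup.centerCongr (Subgroup.topEquiv (G := S))).toEquiv,
      Subgroup.card_top, hc, Subgroup.card_top]
    exact Nat.mul_le_mul (Subgroup.card_le_card_group R)
      ((Subgroup.card_le_card_group _).trans (Subgroup.card_le_card_group R))
  by_cases hna : ∃ Q : Subgroup S, Cfsg.IsMinimalCentrallyLarge Q ∧ ⁅Q, Q⁆ ≠ ⊥
  · obtain ⟨Q, hQ, hne⟩ := hna
    exact Or.inl ⟨_, _, case_mcl hS hJt hQ hne,
      maxCP_Jt hJt CentLarge.isCentrallyLarge_minimalCentrallyLargeJoin⟩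
  push Not at hna
  obtain ⟨R₀, hR₀⟩ := CentLarge.exists_isCentrallyLarge (G := S)
  obtain ⟨Q₀, -, hQ₀⟩ := CentLarge.exists_isMinimalCentrallyLarge_le hR₀
  have hiff := CentLarge.minimal_iff_maxAbelian hQ₀ (CentLarge.isMulCommutative_iff_le_centralizer.2
    (commutator_eq_bot_iff_le_centralizer.1 (hna Q₀ hQ₀)))
  have hJeq : Cfsg.thompsonSubgroupA S = Cfsg.minimalCentrallyLargeJoin S := by
    unfold Cfsg.thompsonSubgroupA Cfsg.minimalCentrallyLargeJoin
    congr 1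
    exact Set.ext fun Q => (hiff Q).symm
  have hJcl : Cfsg.IsCentrallyLarge (Cfsg.thompsonSubgroupA S) :=
    hJeq ▸ CentLarge.isCentrallyLarge_minimalCentrallyLargeJoin
  have hJ : Cfsg.thompsonSubgroupA S = ⊤ :=
    top_le_iff.1 (hJt.ge.trans (CentLarge.centralizer_centerJ_le hJcl le_rfl))
  have htop : IsMuMax (⊤ : Subgroup S) := hJ ▸ ((CentLarge.isCentrallyLarge_iff _).1 hJcl).1
  have hf : ∀ A ∈ Cfsg.maxAbelianSubgroups S,
      Nat.card A ^ 2 = Nat.card S * Nat.card (center S) := fun A hA => by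
    have h1 := (((CentLarge.isCentrallyLarge_iff A).1 ((hiff A).2 hA).1).1).mu_eq htop
    rw [CentLarge.mu, CentLarge.centralizer_of_mem_maxAbelian hA, CentLarge.mu_top] at h1
    rw [pow_two, h1]
  by_cases hZ : ∀ z ∈ center S, z ^ p = 1
  swap
  · push Not at hZ
    obtain ⟨z₀, hz₀, hne⟩ := hZ
    refine Or.inl ⟨_, ⊤, case_center hS hJt hz₀ hne, maxCP_Jt hJt ?_⟩
    rw [← hJ]
    exact hJcl
  have hH : Hyp p S := ⟨hS, Thompson.ea_iff.2 ⟨fun z hz => mem_centralizer_iff.2 fun w _ =>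
    mem_center_iff.1 hz w, hZ⟩, hJ, htop, hf⟩
  by_cases h0 : s0 p S = ⊥
  · exact Or.inr ⟨hJt, hcomm, hH, fun Q hQ => (hiff Q).1 hQ, h0⟩
  obtain ⟨S₁, S₂, h1, h2, h3, h4, h5, h6, h7⟩ := main hH (by
    rw [inf_comm]; exact Core.inf_center_ne_bot h0)
  refine Or.inl ⟨S₁, S₂, Pr.of_top hJt h1 (fun e => ?_) h2 h4 h3 (works_of_sit h7),
    maxCP_Jt hJt ((CentLarge.isCentrallyLarge_iff S₂).2 ⟨h5, h6⟩)⟩
  obtain ⟨x, hx⟩ := exists_ne (1 : S)
  refine hx (mem_bot.1 (e.le (h6 (mem_centralizer_iff.2 fun y hy => ?_))))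
  rw [mem_bot.1 (e.le hy), one_mul, mul_one]

/-- The listed properties of the exceptional class. -/
theorem exceptional [Nontrivial S] (h : Hyp p S) (h0 : s0 p S = ⊥) :
    Cfsg.thompsonSubgroupA S = ⊤ ∧ Cfsg.IsElementaryAbelian p (center S) ∧
      Cfsg.IsElementaryAbelian p (frattini S) ∧ (p = 2 → frattini S ≤ center S) ∧
      (p = 3 → frattini S ≤ Subgroup.upperCentralSeries S 2) ∧
      (3 < p → frattini S ≤ center S ∧ Monoid.exponent S = p) ∧
      ∀ A ∈ Cfsg.maxAbelianSubgroups S, ∀ B ∈ Cfsg.maxAbelianSubgroups S, ∀ Q : Subgroup S,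
        Nat.card ↥A ^ 2 = Nat.card S * Nat.card ↥(center S) ∧
        Nat.card ↥Q * Nat.card ↥(center ↥Q) ≤ Nat.card S * Nat.card ↥(center S) ∧
        ((A ⊔ B : Subgroup S) : Set S) = (A : Set S) * (B : Set S) ∧
        A ⊔ B = centralizer ((A ⊓ B : Subgroup S) : Set S) := by
  haveI := h.hS.isNilpotent
  have hp := (Fact.out : p.Prime)
  have hcen : ∀ {X : Subgroup S}, ⁅X, (⊤ : Subgroup S)⁆ = ⊥ → X ≤ center S := fun {X} hX x hx =>
    mem_center_iff.2 fun y => mem_centralizer_iff.1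
      (commutator_eq_bot_iff_le_centralizer.1 hX hx) y (mem_top y)
  -- `Φ(S)` is elementary when `Φ(Φ(S)) = 1`
  have hea : (frattini ↥(frattini S)).map (frattini S).subtype = ⊥ →
      Cfsg.IsElementaryAbelian p (frattini S) := fun he => by
    rw [Subgroup.map_eq_bot_iff, Subgroup.ker_subtype, le_bot_iff] at he
    haveI := (h.hS.to_subgroup (frattini S)).isNilpotent
    refine Thompson.ea_iff.2 ⟨fun x hx => mem_centralizer_iff.2 fun y hy => ?_, fun x hx => ?_⟩
    · have h1 : ⁅(⟨y, hy⟩ : ↥(frattini S)), ⟨x, hx⟩⁆ ∈ frattini ↥(frattini S) :=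
        Core.commutator_le_frattini (commutator_mem_commutator (mem_top _) (mem_top _))
      rw [he, mem_bot, commutatorElement_eq_one_iff_mul_comm] at h1
      exact congrArg Subtype.val h1
    · have h1 := Core.pow_mem_frattini (p := p) (h.hS.to_subgroup (frattini S)) ⟨x, hx⟩
      rw [he, mem_bot] at h1
      exact congrArg Subtype.val h1
  have h0' := h0
  unfold s0 at h0'
  have hmain : Cfsg.IsElementaryAbelian p (frattini S) ∧ (p = 2 → frattini S ≤ center S) ∧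
      (p = 3 → frattini S ≤ Subgroup.upperCentralSeries S 2) ∧
      (3 < p → frattini S ≤ center S ∧ Monoid.exponent S = p) := by
    by_cases h2 : p = 2
    · rw [if_pos h2, sup_eq_bot_iff] at h0'
      exact ⟨hea h0'.2, fun _ => hcen h0'.1, fun e => absurd e (by omega),
        fun e => absurd e (by omega)⟩
    rw [if_neg h2] at h0'
    by_cases h3 : p = 3
    · rw [if_pos h3, sup_eq_bot_iff] at h0'
      refine ⟨hea h0'.2, fun e => absurd e h2, fun _ x hx => ?_, fun e => absurd e (by omega)⟩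
      refine Subgroup.mem_upperCentralSeries_succ_iff.2 fun y => ?_
      rw [Subgroup.upperCentralSeries_one]
      exact hcen h0'.1 (commutator_mem_commutator hx (mem_top y))
    rw [if_neg h3, sup_eq_bot_iff] at h0'
    have hΦ := hcen h0'.1
    have hpow : ∀ x : S, x ^ p = 1 := fun x => mem_bot.1 (h0'.2.le
      (Subgroup.subset_closure ⟨x, mem_top x, by rw [pow_one]⟩))
    refine ⟨Thompson.ea_iff.2 ⟨fun x hx => mem_centralizer_iff.2 fun y _ => mem_center_iff.1 (hΦ hx) y,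
      fun x _ => hpow x⟩, fun e => absurd e h2, fun e => absurd e h3, fun _ => ⟨hΦ, ?_⟩⟩
    obtain ⟨x, hx⟩ := exists_ne (1 : S)
    rcases hp.eq_one_or_self_of_dvd _ (Monoid.exponent_dvd_of_forall_pow_eq_one hpow) with e | e
    · exact absurd (pow_one x ▸ e ▸ Monoid.pow_exponent_eq_one x) hx
    · exact e
  refine ⟨h.hJ, h.hZ, hmain.1, hmain.2.1, hmain.2.2.1, hmain.2.2.2, fun A hA B hB Q => ?_⟩
  have hμ : ∀ T ∈ Cfsg.maxAbelianSubgroups S, IsMuMax T := fun T hT => h.isMuMax_of (by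
    rw [CentLarge.mu, CentLarge.centralizer_of_mem_maxAbelian hT, ← pow_two, h.hf T hT])
  obtain ⟨-, -, hset, -⟩ := (hμ A hA).sup_inf (hμ B hB)
  refine ⟨h.hf A hA, ?_, hset, ?_⟩
  · refine le_trans ?_ ((h.htop Q).trans_eq CentLarge.mu_top)
    rw [CentLarge.card_center]
    exact Nat.mul_le_mul_left _ (card_le_of_le inf_le_right)
  · rw [(hμ A hA).centralizer_inf_eq (hμ B hB), CentLarge.centralizer_of_mem_maxAbelian hA,
      CentLarge.centralizer_of_mem_maxAbelian hB]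

theorem exists_elementary [Nontrivial S] (h : Hyp p S)
    (hmcl : ∀ Q : Subgroup S, Cfsg.IsMinimalCentrallyLarge Q → Q ∈ Cfsg.maxAbelianSubgroups S)
    (hphi : Cfsg.frattiniOfMinimalCLJoin p S = ⊥) :
    ∃ A ∈ Cfsg.maxAbelianSubgroups S, Cfsg.IsElementaryAbelian p A := by
  obtain ⟨Q, hQ, hmax⟩ := Set.exists_max_image {Q : Subgroup S | Cfsg.IsMinimalCentrallyLarge Q}
    (fun Q => Nat.card (Cfsg.omegaOneCenter p Q)) (Set.toFinite _) (by
      obtain ⟨R, hR⟩ := CentLarge.exists_isCentrallyLarge (G := S)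
      obtain ⟨Q, -, hQ⟩ := CentLarge.exists_isMinimalCentrallyLarge_le hR
      exact ⟨Q, hQ⟩)
  have hbig : Nat.card (Cfsg.omegaOneCenter p Q) = Cfsg.maxOmegaCenterOfMinimalCL p S := by
    refine le_antisymm (le_csSup ⟨Nat.card (Cfsg.omegaOneCenter p Q), ?_⟩ ⟨Q, hQ, rfl⟩)
      (csSup_le' ?_)
    all_goals
      rintro k ⟨R, hR, rfl⟩
      exact hmax R hR
  refine ⟨Q, hmcl Q hQ, Thompson.ea_iff.2
    ⟨CentLarge.isMulCommutative_iff_le_centralizer.1 (hmcl Q hQ).1, fun x hx => ?_⟩⟩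
  have h1 : ((⟨x, hx⟩ : ↥Q) ^ p : ↥Q).1 ∈ Cfsg.frattiniOfMinimalCLJoin p S :=
    (le_iSup (fun T : {T : Subgroup S // Cfsg.IsMinimalCentrallyLarge T ∧
        Nat.card ↥(Cfsg.omegaOneCenter p T) = Cfsg.maxOmegaCenterOfMinimalCL p S} =>
        (frattini ↥(T : Subgroup S)).map (T : Subgroup S).subtype) ⟨Q, hQ, hbig⟩)
      ⟨_, Core.pow_mem_frattini (p := p) (h.hS.to_subgroup Q) ⟨x, hx⟩, rfl⟩
  rw [hphi, mem_bot, Subgroup.coe_pow] at h1
  exact h1

end Cfsg.Agent.PushFamily
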