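import Cfsg.Agent.PushFamily.Path
import Cfsg.Agent.PushUp.Res
import Cfsg.Agent.PushFamily.Factor
import Cfsg.Agent.Fusion.Critical
import Cfsg.Agent.SymplecticType.PowerLemma

/-!
# The part of `S` centralizing `O^p(G)`; when it contains the small Frattini part
-/

set_option autoImplicit false
set_option linter.unusedSectionVars false

universe u

namespace Cfsg.Agent.PushFamily

open Subgroup
open scoped commutatorElement

variable {S : Type u} [Group S] [Finite S] {p : ℕ} [Fact p.Prime]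

/-- The obstruction subgroup `S₀`. -/
def s0 (p : ℕ) (S : Type u) [Group S] : Subgroup S :=
  if p = 2 then ⁅frattini S, (⊤ : Subgroup S)⁆ ⊔ (frattini ↥(frattini S)).map (frattini S).subtype
  else if p = 3 then ⁅⁅frattini S, (⊤ : Subgroup S)⁆, (⊤ : Subgroup S)⁆ ⊔
    (frattini ↥(frattini S)).map (frattini S).subtype
  else ⁅frattini S, (⊤ : Subgroup S)⁆ ⊔ Cfsg.powerClosure p 1 (⊤ : Subgroup S)

/-- The elements central modulo `N`. -/
def cen (N : Subgroup S) [N.Normal] : Subgroup S :=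
  (center (S ⧸ N)).comap (QuotientGroup.mk' N)

instance cen_normal (N : Subgroup S) [N.Normal] : (cen N).Normal :=
  (inferInstance : (center (S ⧸ N)).Normal).comap _

theorem mem_cen {N : Subgroup S} [N.Normal] {x : S} : x ∈ cen N ↔ ∀ u, ⁅x, u⁆ ∈ N := by
  rw [cen, mem_comap, mem_center_iff]
  constructor
  · intro h u
    rw [← QuotientGroup.eq_one_iff]
    show QuotientGroup.mk' N ⁅x, u⁆ = 1
    rw [map_commutatorElement, commutatorElement_eq_one_iff_mul_comm]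
    exact (h _).symm
  · intro h y
    obtain ⟨u, rfl⟩ := QuotientGroup.mk'_surjective N y
    have h1 : QuotientGroup.mk' N ⁅x, u⁆ = 1 := (QuotientGroup.eq_one_iff _).2 (h u)
    rw [map_commutatorElement, commutatorElement_eq_one_iff_mul_comm] at h1
    exact h1.symm

theorem le_cen (N : Subgroup S) [hN : N.Normal] : N ≤ cen N := fun x hx => mem_cen.2 fun u => by
  rw [commutatorElement_def, mul_assoc, mul_assoc, ← mul_assoc u]
  exact mul_mem hx (hN.conj_mem _ (inv_mem hx) u)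

theorem commutator_cen_le (N : Subgroup S) [N.Normal] : ⁅cen N, (⊤ : Subgroup S)⁆ ≤ N :=
  commutator_le.2 fun _ hx u _ => mem_cen.1 hx u

/-- Centrality modulo `N` may be tested on a supplement and a subgroup. -/
theorem mem_cen_of {N Q Y : Subgroup S} [N.Normal] (hcov : ∀ s, ∃ y ∈ Y, y⁻¹ * s ∈ Q) {x : S}
    (hY : ∀ y ∈ Y, ⁅x, y⁆ ∈ N) (hQ : ∀ q ∈ Q, ⁅x, q⁆ ∈ N) : x ∈ cen N := by
  refine mem_cen.2 fun u => ?_
  obtain ⟨y, hy, hq⟩ := hcov u
  have e : ⁅x, u⁆ = ⁅x, y⁆ * (y * ⁅x, y⁻¹ * u⁆ * y⁻¹) := by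
    simp only [commutatorElement_def]; group
  rw [e]
  exact mul_mem (hY y hy) ((inferInstance : N.Normal).conj_mem _ (hQ _ hq) y)

section

variable {R Q Y : Subgroup S} [hR : R.Normal] [hQ : Q.Normal]
  (hcov : ∀ s, ∃ y ∈ Y, y⁻¹ * s ∈ Q) (hRQ : R ≤ Q)
  (hYY : ∀ y ∈ Y, ∀ y' ∈ Y, Commute y y') (hYp : ∀ y ∈ Y, y ^ p = 1)
  (hQQ : ⁅Q, Q⁆ ≤ R) (hQp : ∀ q ∈ Q, q ^ p ∈ R)

include hcov hQQ hYY hRQ in
/-- If the commutators `[q, y]` lie in a normal subgroup above `R`, so does `[S, S]`. -/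
theorem derived_le_of {C : Subgroup S} [hC : C.Normal] (hRC : R ≤ C)
    (h : ∀ q ∈ Q, ∀ y ∈ Y, ⁅q, y⁆ ∈ C) : ⁅(⊤ : Subgroup S), (⊤ : Subgroup S)⁆ ≤ C := by
  have hq : ∀ q ∈ Q, ∀ t, ⁅q, t⁆ ∈ C := by
    intro q hq t
    obtain ⟨y, hy, hq'⟩ := hcov t
    have e : ⁅q, t⁆ = ⁅q, y⁆ * (y * ⁅q, y⁻¹ * t⁆ * y⁻¹) := by
      simp only [commutatorElement_def]; group
    rw [e]
    exact mul_mem (h q hq y hy)
      (hC.conj_mem _ (hRC (hQQ (commutator_mem_commutator hq hq'))) y)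
  refine commutator_le.2 fun s _ t _ => ?_
  obtain ⟨y, hy, hq1⟩ := hcov s
  obtain ⟨y', hy', hq2⟩ := hcov t
  have e : ⁅s, t⁆ = (y * ⁅y⁻¹ * s, t⁆ * y⁻¹) * (⁅y, y'⁆ * (y' * ⁅y, y'⁻¹ * t⁆ * y'⁻¹)) := by
    simp only [commutatorElement_def]; group
  rw [e, commutatorElement_eq_one_iff_mul_comm.2 (hYY y hy y' hy').eq, one_mul]
  refine mul_mem (hC.conj_mem _ (hq _ hq1 t) y) (hC.conj_mem _ ?_ y')
  rw [← commutatorElement_inv]
  exact inv_mem (hq _ hq2 y)

include hcov hYp hQp in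
theorem frattini_le_sup : frattini S ≤ ⁅(⊤ : Subgroup S), (⊤ : Subgroup S)⁆ ⊔ R := by
  set D := ⁅(⊤ : Subgroup S), (⊤ : Subgroup S)⁆ ⊔ R with hD
  refine Fusion.frattini_le_of_elementary (p := p) D (by rw [commutator_def]; exact le_sup_left) fun s => ?_
  obtain ⟨y, hy, hq⟩ := hcov s
  have h1 : QuotientGroup.mk' D ⁅y, y⁻¹ * s⁆ = 1 :=
    (QuotientGroup.eq_one_iff _).2 (mem_sup_left (commutator_mem_commutator (mem_top _) (mem_top _)))
  rw [map_commutatorElement, commutatorElement_eq_one_iff_mul_comm] at h1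
  refine (QuotientGroup.eq_one_iff _).1 (?_ : QuotientGroup.mk' D (s ^ p) = 1)
  rw [map_pow, ← mul_inv_cancel_left y s, map_mul,
    (show Commute (QuotientGroup.mk' D y) (QuotientGroup.mk' D (y⁻¹ * s)) from h1).mul_pow,
    ← map_pow, ← map_pow, hYp y hy, map_one, one_mul]
  exact (QuotientGroup.eq_one_iff _).2 (mem_sup_right (hQp _ hq))

include hcov hRQ hYY hYp hQQ hQp in
theorem s0_le (hT : p ≠ 3 → ∀ q ∈ Q, ∀ y ∈ Y, ∀ y' ∈ Y, ⁅⁅q, y⁆, y'⁆ ∈ R)
    (h3 : ∀ q ∈ Q, ∀ y ∈ Y, ∀ y' ∈ Y, ∀ y'' ∈ Y, ⁅⁅⁅q, y⁆, y'⁆, y''⁆ ∈ R) : s0 p S ≤ R := by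
  have hQQ' : ∀ a ∈ Q, ∀ b ∈ Q, ⁅a, b⁆ ∈ R := fun a ha b hb =>
    hQQ (commutator_mem_commutator ha hb)
  have hconj : ∀ q ∈ Q, ∀ y, ⁅q, y⁆ ∈ Q := fun q hq y => by
    rw [commutatorElement_def, mul_assoc, mul_assoc, ← mul_assoc y]
    exact mul_mem hq (hQ.conj_mem _ (inv_mem hq) y)
  have hDQ : ⁅(⊤ : Subgroup S), (⊤ : Subgroup S)⁆ ≤ Q :=
    derived_le_of hcov hRQ hYY hQQ hRQ fun q hq y _ => hconj q hq y
  have hΦ := frattini_le_sup (p := p) (R := R) hcov hYp hQp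
  have hΦQ : frattini S ≤ Q := hΦ.trans (sup_le hDQ hRQ)
  have hΦΦ : (frattini ↥(frattini S)).map (frattini S).subtype ≤ R := by
    refine map_le_iff_le_comap.2 (Fusion.frattini_le_of_elementary (p := p) _ ?_ fun x => ?_)
    · rw [commutator_def]
      exact commutator_le.2 fun a _ b _ => hQQ' _ (hΦQ a.2) _ (hΦQ b.2)
    · show ((x ^ p : ↥(frattini S)) : S) ∈ R
      rw [Subgroup.coe_pow]
      exact hQp _ (hΦQ x.2)
  have hstep : ∀ {C : Subgroup S} [C.Normal], R ≤ C →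
      ⁅(⊤ : Subgroup S), (⊤ : Subgroup S)⁆ ≤ cen C → ⁅frattini S, (⊤ : Subgroup S)⁆ ≤ C :=
    fun {C} _ hRC hC => (commutator_mono (hΦ.trans (sup_le hC (hRC.trans (le_cen C)))) le_rfl).trans
      (commutator_cen_le C)
  unfold s0
  by_cases h2 : p = 2
  · rw [if_pos h2]
    refine sup_le (hstep le_rfl ?_) hΦΦ
    refine derived_le_of hcov hRQ hYY hQQ (le_cen R) fun q hq y hy => mem_cen_of hcov
      (fun y' hy' => hT (by omega) q hq y hy y' hy') fun q' hq' => hQQ' _ (hconj q hq y) _ hq'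
  rw [if_neg h2]
  by_cases h3' : p = 3
  · rw [if_pos h3']
    refine sup_le ((commutator_mono (hstep (le_cen R) ?_) le_rfl).trans (commutator_cen_le R)) hΦΦ
    refine derived_le_of hcov hRQ hYY hQQ ((le_cen R).trans (le_cen _)) fun q hq y hy =>
      mem_cen_of hcov (fun y' hy' => mem_cen_of hcov (fun y'' hy'' => h3 q hq y hy y' hy' y'' hy'')
        fun q' hq' => hQQ' _ (hconj _ (hconj q hq y) y') _ hq') fun q' hq' =>
        le_cen R (hQQ' _ (hconj q hq y) _ hq')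
  rw [if_neg h3']
  have hcl : ⁅(⊤ : Subgroup S), (⊤ : Subgroup S)⁆ ≤ cen R :=
    derived_le_of hcov hRQ hYY hQQ (le_cen R) fun q hq y hy => mem_cen_of hcov
      (fun y' hy' => hT h3' q hq y hy y' hy') fun q' hq' => hQQ' _ (hconj q hq y) _ hq'
  refine sup_le (hstep le_rfl hcl) ((closure_le _).2 ?_)
  rintro _ ⟨s, -, rfl⟩
  rw [pow_one]
  obtain ⟨y, hy, hq⟩ := hcov s
  set π := QuotientGroup.mk' R with hπ
  have hc : ∀ u, Commute ⁅π (y⁻¹ * s), π y⁆ (π u) := fun u => by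
    rw [← map_commutatorElement]
    exact ((mem_center_iff.1
      (hcl (commutator_mem_commutator (mem_top (y⁻¹ * s)) (mem_top y))) (π u))).symm
  have hcp : ⁅π (y⁻¹ * s), π y⁆ ^ p = 1 := by
    rw [← map_commutatorElement, ← map_pow]
    exact (QuotientGroup.eq_one_iff _).2 (hQp _ (hconj _ hq y))
  rcases SymplecticType.mul_pow_prime (hc y) (hc (y⁻¹ * s)) hcp with e | ⟨e, -⟩
  · show s ^ p ∈ R
    rw [← QuotientGroup.eq_one_iff]
    show π (s ^ p) = 1
    rw [map_pow, ← mul_inv_cancel_left y s, map_mul, e, ← map_pow, ← map_pow, hYp y hy, map_one,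
      one_mul]
    exact (QuotientGroup.eq_one_iff _).2 (hQp _ hq)
  · exact absurd e h2

end

namespace Sit

variable (i : Sit p S)

/-- The elements of `Q` centralizing `O^p(G)`. -/
def R : Subgroup S := (centralizer (Cfsg.pResidual p i.G : Set i.G)).comap i.emb ⊓ i.Q

instance R_normal : i.R.Normal :=
  haveI : ((centralizer (Cfsg.pResidual p i.G : Set i.G)).comap i.emb).Normal :=
    (inferInstance : (centralizer (Cfsg.pResidual p i.G : Set i.G)).Normal).comap _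
  Subgroup.normal_inf_normal _ i.Q

theorem R_le_Q : i.R ≤ i.Q := inf_le_right

theorem mem_R {s : S} :
    s ∈ i.R ↔ (∀ l ∈ Cfsg.pResidual p i.G, Commute l (i.emb s)) ∧ s ∈ i.Q :=
  ⟨fun h => ⟨fun l hl => mem_centralizer_iff.1 h.1 l hl, h.2⟩,
    fun h => ⟨mem_centralizer_iff.2 fun l hl => (h.1 l hl).eq, h.2⟩⟩

theorem map_R : i.R.map i.emb =
    centralizer (Cfsg.pResidual p i.G : Set i.G) ⊓ Cfsg.pCore p i.G := by
  refine le_antisymm ?_ fun g hg => ?_
  · rintro _ ⟨s, hs, rfl⟩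
    exact hs
  · obtain ⟨s, rfl⟩ := i.exists_emb (i.QP hg.2)
    exact ⟨s, hg, rfl⟩

theorem Zc_le_R : i.Zc ≤ i.R := fun z hz =>
  ⟨(center_le_centralizer _) hz, i.V_le_Q (i.center_le_V (i.Zc_le hz))⟩

/-- The central elements of `R` are central in the group. -/
theorem mem_Zc_of_R {z : S} (hz : z ∈ center S) (hR : z ∈ i.R) : z ∈ i.Zc := by
  have hle : (⊤ : Subgroup i.G) ≤ centralizer ({i.emb z} : Set i.G) :=
    (Fusion.sylow_sup_pResidual i.P).ge.trans (sup_le (fun g hg => mem_centralizer_singleton_iff.2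
      (mem_centralizer_iff.1 (i.map_center_le ⟨z, hz, rfl⟩).2 g hg))
      fun l hl => mem_centralizer_singleton_iff.2 ((i.mem_R.1 hR).1 l hl).eq)
  exact mem_center_iff.2 fun g => mem_centralizer_singleton_iff.1 (hle (mem_top g))

/-- A part of `Z(S)` inside `R` is central. -/
theorem le_Zc_of_s0 (h0 : s0 p S ≤ i.R) {X : Subgroup S} (hX : X ≤ center S ⊓ s0 p S) :
    X ≤ i.Zc := fun _ hz => i.mem_Zc_of_R (hX hz).1 (h0 (hX hz).2)

/-- Coprime descent: an element whose commutators with `O^p(G)` lie in `R` lies in `R`. -/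
theorem mem_R_of {s : S} (hs : s ∈ i.Q)
    (h : ∀ l ∈ Cfsg.pResidual p i.G, ⁅l, i.emb s⁆ ∈ i.R.map i.emb) : s ∈ i.R := by
  refine i.mem_R.2 ⟨fun l hl => ?_, hs⟩
  have hle : Cfsg.pResidual p i.G ≤ centralizer ({i.emb s} : Set i.G) := by
    refine (closure_le _).2 fun x hx => ?_
    have hxR := Fusion.mem_pResidual_of_coprime hx
    have hw := h x hxR
    rw [i.map_R] at hw
    obtain ⟨k, hk⟩ : ∃ k : ℕ, ⁅x, i.emb s⁆ ^ p ^ k = 1 := by
      obtain ⟨k, hk⟩ := i.P.2 ⟨_, i.QP hw.2⟩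
      exact ⟨k, congrArg Subtype.val hk⟩
    have h1 : ⁅x, ⁅x, i.emb s⁆⁆ ∈ (⊥ : Subgroup i.G) := mem_bot.2
      (commutatorElement_eq_one_iff_mul_comm.2 (mem_centralizer_iff.1 hw.1 x hxR))
    have h2 := PushUp.coprime_step hx h1 ⟨k, hk⟩
    rw [mem_bot] at h2
    exact mem_centralizer_singleton_iff.2 (commutatorElement_eq_one_iff_mul_comm.1 h2)
  exact mem_centralizer_singleton_iff.1 (hle hl)

end Sit

open Cfsg.Agent.PushUp (cent fix) in
/-- `V / C_V(G)` is natural, with fixed points above `Z(S)`. -/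
theorem Sit.natSec_V (i : Sit p S) (h : Hyp p S) (hi : i.Nc) {F : Type*} [Field F] [Fintype F]
    {n : ℕ} (hF' : Fintype.card F = p ^ n)
    (hq : Nat.card (i.P : Subgroup i.G) = p ^ n * Nat.card (Cfsg.pCore p i.G)) :
    NatSec F p i.Vg (i.Vg ⊓ center i.G) ∧
      (center S).map i.emb ≤ fix (i.P : Subgroup i.G) i.Vg (i.Vg ⊓ center i.G) := by
  set Q := Cfsg.pCore p i.G with hQdef
  set W₀ := i.Vg ⊓ center i.G with hW₀
  haveI hW₀n : W₀.Normal := by rw [hW₀]; infer_instance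
  have hWV : W₀ < i.Vg := by
    refine lt_of_le_of_ne inf_le_left fun e => hi ?_
    intro z' hz'
    exact (e.ge (i.center_le_V hz') : i.emb z' ∈ W₀).2
  have hQcV : Q ≤ cent i.Vg W₀ := fun q hq' v hv => by
    rw [commutatorElement_eq_one_iff_mul_comm.2 (mem_centralizer_iff.1 (i.Vg_le hv).2 q hq')]
    exact one_mem _
  have hfixV : (center S).map i.emb ≤ fix (i.P : Subgroup i.G) i.Vg W₀ := by
    rintro _ ⟨z', hz', rfl⟩
    refine ⟨i.center_le_V hz', fun t ht => ?_⟩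
    rw [commutatorElement_eq_one_iff_mul_comm.2
      (mem_centralizer_iff.1 (i.map_center_le ⟨z', hz', rfl⟩).2 t ht)]
    exact one_mem _
  have hirr : ∀ u ∈ i.Vg, (∀ g : i.G, ⁅g, u⁆ ∈ W₀) → u ∈ W₀ := by
    intro u hu hu'
    let N : Subgroup i.G := i.Vg ⊓ PushUp.fix (⊤ : Subgroup i.G) i.Vg W₀
    haveI := PushUp.fix_normal (Q := (⊤ : Subgroup i.G)) (U := i.Vg) (W := W₀)
    haveI : N.Normal := inferInstance
    refine ⟨hu, i.normal_center (N := N) ?_ ⟨hu, hu, fun g _ => hu' g⟩⟩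
    rintro g ⟨hg, -, hg'⟩
    obtain ⟨v, hv, rfl⟩ := i.map_V.ge hg
    obtain ⟨s, -, hs⟩ := SetLike.exists_of_lt (lt_top_iff_ne_top.2 i.Q_ne_top)
    refine ⟨v, i.regular h hi hv hs ?_, rfl⟩
    show i.emb ⁅s, v⁆ ∈ center i.G
    rw [map_commutatorElement]
    exact (hg' _ (mem_top _)).2
  refine ⟨(natSec_of_bound i.st hF' hq (U := i.Vg) (W := W₀) hWV
    (i.Vg_le.trans inf_le_left) hQcV
    (fun u hu => by rw [(Thompson.ea_iff.1 (i.Vg_ea h)).2 u hu]; exact one_mem _) hirr ?_).1, hfixV⟩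
  refine le_trans (le_of_eq ?_) (Nat.mul_le_mul_left _ (card_le_of_le hfixV))
  rw [← i.map_Q, show Nat.card (i.P : Subgroup i.G) = Nat.card S from
      (Nat.card_congr i.e.toEquiv).symm, ← i.map_V, card_map_of_injective i.emb_injective,
    card_map_of_injective i.emb_injective, card_map_of_injective i.emb_injective]
  exact i.card_VQ h hi

/-- No middle group: `V_a ⊄ Q_c`. -/
theorem good_zero {F : Set (Sit p S)} (h : Hyp p S) (hF : Fam F) {a c : Sit p S}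
    {L : List (Step p S)} (hb : Short F 0) (hC : Crit F 0 a L c) : s0 p S ≤ c.R := by
  obtain rfl : L = [] := List.eq_nil_of_length_eq_zero hC.len
  have ha := hF.nc _ hC.ha
  have hc := hF.nc _ hC.hc
  have hcov : ∀ s, ∃ y ∈ a.V, y⁻¹ * s ∈ c.Q := fun s => by
    obtain ⟨y, hy, hq⟩ := cover h hF hb hC s
    obtain ⟨v, hv, hy⟩ := mem_img.1 hy
    obtain rfl : v = y := link_nil.1 hy
    exact ⟨v, hv, hq⟩
  have hcomm : ∀ y ∈ a.V, ∀ s, ⁅s, y⁆ ∈ center S := fun y hy s => by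
    rw [← commutatorElement_inv]
    exact inv_mem (a.quad h ha hy s)
  haveI : (center c.G).Normal := inferInstance
  -- `[O^p(G), O_p(G)] ≤ V`
  have hres : ⁅Cfsg.pResidual p c.G, Cfsg.pCore p c.G⁆ ≤ c.Vg := by
    refine PushUp.res_of_chief (c.Vg_le.trans inf_le_left) (c.P.2.to_le c.QP) fun U W hVW hUQ hch => ?_
    haveI := hch.2.1
    haveI hWn := hch.2.2.1
    refine chief_trivial c.st hch fun g hg u hu => ?_
    obtain ⟨s, rfl⟩ := c.exists_emb hg
    obtain ⟨y, hy, hq⟩ := hcov s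
    obtain ⟨q, rfl⟩ := c.exists_emb (c.QP (hUQ hu))
    have e : ⁅c.emb s, c.emb q⁆ =
        (c.emb y * ⁅c.emb (y⁻¹ * s), c.emb q⁆ * (c.emb y)⁻¹) * c.emb ⁅y, q⁆ := by
      simp only [map_mul, map_inv, commutatorElement_def]; group
    rw [e]
    refine mul_mem (hWn.conj_mem _ (chief_Q c.st hch hUQ hq _ hu) _)
      (hVW (c.mem_V.1 (c.center_le_V ?_)))
    rw [← commutatorElement_inv]
    exact inv_mem (hcomm y hy q)
  have hresS : ∀ q ∈ c.Q, ∀ l ∈ Cfsg.pResidual p c.G, ⁅l, c.emb q⁆ ∈ c.Vg := fun q hq l hl =>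
    hres (commutator_mem_commutator hl hq)
  have hbot : ⁅⁅Cfsg.pCore p c.G, Cfsg.pCore p c.G⁆, Cfsg.pResidual p c.G⁆ = ⊥ := by
    have h1 : ⁅⁅Cfsg.pCore p c.G, Cfsg.pResidual p c.G⁆, Cfsg.pCore p c.G⁆ = ⊥ := by
      refine commutator_eq_bot_iff_le_centralizer.2 ?_
      rw [commutator_comm]
      exact hres.trans (c.Vg_le.trans inf_le_right)
    exact commutator_commutator_eq_bot_of_rotate h1 (by rwa [commutator_comm (Cfsg.pResidual p c.G)])
  refine s0_le (Y := a.V) hcov c.R_le_Q (fun y hy y' hy' => a.V_comm hy hy')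
    (fun y hy => a.V_pow h hy) ?_ ?_ ?_ ?_
  · refine commutator_le.2 fun x hx y hy => c.mem_R.2
      ⟨fun l hl => ?_, commutator_le_self _ (commutator_mem_commutator hx hy)⟩
    have h1 : c.emb ⁅x, y⁆ ∈ ⁅Cfsg.pCore p c.G, Cfsg.pCore p c.G⁆ := by
      rw [map_commutatorElement]; exact commutator_mem_commutator hx hy
    exact mem_centralizer_iff.1 (commutator_eq_bot_iff_le_centralizer.1 hbot h1) l hl
  · refine fun q hq => c.mem_R.2 ⟨fun l hl => ?_, pow_mem hq p⟩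
    have hw := hresS q hq l hl
    set w := ⁅l, c.emb q⁆ with hwdef
    have hc' : Commute w (c.emb q) :=
      (mem_centralizer_iff.1 (c.Vg_le hw).2 _ hq).symm
    have e : l * c.emb q * l⁻¹ = w * c.emb q := by
      rw [hwdef, commutatorElement_def]; group
    have h2 : l * c.emb (q ^ p) * l⁻¹ = c.emb (q ^ p) := by
      rw [map_pow, ← conj_pow, e, hc'.mul_pow, (Thompson.ea_iff.1 (c.Vg_ea h)).2 _ hw, one_mul]
    exact mul_inv_eq_iff_eq_mul.1 h2
  · intro _ q hq y hy y' hy'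
    rw [commutatorElement_eq_one_iff_mul_comm.2 (mem_center_iff.1 (hcomm y hy q) y').symm]
    exact one_mem _
  · intro q hq y hy y' hy' y'' hy''
    rw [commutatorElement_eq_one_iff_mul_comm.2 (mem_center_iff.1 (hcomm y hy q) y').symm]
    simp

end Cfsg.Agent.PushFamily
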