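import Cfsg.Agent.PushFamily.Main
import Cfsg.Agent.PushRankOne.CLPush

/-!
# Transport of the large-subgroup notions along isomorphisms
-/

set_option autoImplicit false
set_option linter.unusedSectionVars false

universe u v

namespace Cfsg.Agent.PushFamily

open Subgroup

variable {S : Type u} [Group S] {H : Type v} [Group H] (e : S ≃* H) {p : ℕ}

theorem card_map_iso (R : Subgroup S) : Nat.card (R.map e.toMonoidHom) = Nat.card R :=
  card_map_of_injective e.injective

theorem exists_map_iso (T : Subgroup H) : ∃ R : Subgroup S, R.map e.toMonoidHom = T :=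
  ⟨_, Subgroup.map_comap_eq_self_of_surjective (f := e.toMonoidHom) e.surjective T⟩

theorem map_centralizer_iso (R : Subgroup S) :
    (centralizer (R : Set S)).map e.toMonoidHom = centralizer (R.map e.toMonoidHom : Set H) := by
  refine le_antisymm ?_ fun y hy => ?_
  · rintro _ ⟨r, hr, rfl⟩
    refine mem_centralizer_iff.2 ?_
    rintro _ ⟨t, ht, rfl⟩
    rw [← map_mul, ← map_mul, mem_centralizer_iff.1 hr t ht]
  · obtain ⟨r, rfl⟩ := e.surjective y
    refine ⟨r, mem_centralizer_iff.2 fun t ht => e.injective ?_, rfl⟩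
    rw [map_mul, map_mul]
    exact mem_centralizer_iff.1 hy _ ⟨t, ht, rfl⟩

theorem isMulCommutative_map_iso (R : Subgroup S) :
    IsMulCommutative ↥(R.map e.toMonoidHom) ↔ IsMulCommutative ↥R := by
  rw [← le_centralizer_iff_isMulCommutative, ← le_centralizer_iff_isMulCommutative,
    ← map_centralizer_iso, Subgroup.map_le_map_iff_of_injective e.injective]

theorem maxAb_iff (R : Subgroup S) :
    R.map e.toMonoidHom ∈ Cfsg.maxAbelianSubgroups H ↔ R ∈ Cfsg.maxAbelianSubgroups S := by
  refine and_congr (isMulCommutative_map_iso e R) ⟨fun h B hB => ?_, fun h T hT => ?_⟩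
  · rw [← card_map_iso e B, ← card_map_iso e R]
    exact h _ ((isMulCommutative_map_iso e B).2 hB)
  · obtain ⟨B, rfl⟩ := exists_map_iso e T
    rw [card_map_iso, card_map_iso]
    exact h _ ((isMulCommutative_map_iso e B).1 hT)

theorem map_thompsonA :
    (Cfsg.thompsonSubgroupA S).map e.toMonoidHom = Cfsg.thompsonSubgroupA H := by
  refine le_antisymm (map_le_iff_le_comap.2 (sSup_le fun A hA => map_le_iff_le_comap.1
    (le_sSup ((maxAb_iff e A).2 hA)))) (sSup_le fun T hT => ?_)
  obtain ⟨A, rfl⟩ := exists_map_iso e T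
  exact map_mono (le_sSup ((maxAb_iff e A).1 hT))

theorem card_center_iso (R : Subgroup S) :
    Nat.card (center ↥(R.map e.toMonoidHom)) = Nat.card (center ↥R) :=
  (Nat.card_congr
    (Subgroup.centerCongr (R.equivMapOfInjective e.toMonoidHom e.injective)).toEquiv).symm

theorem maxCP_iso (e : S ≃* H) : Cfsg.maxCentralProduct H = Cfsg.maxCentralProduct S := by
  unfold Cfsg.maxCentralProduct
  congr 1
  ext k
  constructor
  · rintro ⟨T, rfl⟩
    obtain ⟨R, rfl⟩ := exists_map_iso e T
    exact ⟨R, by rw [card_map_iso, card_center_iso]⟩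
  · rintro ⟨R, rfl⟩
    exact ⟨R.map e.toMonoidHom, by rw [card_map_iso, card_center_iso]⟩

theorem cl_iff (R : Subgroup S) :
    Cfsg.IsCentrallyLarge (R.map e.toMonoidHom) ↔ Cfsg.IsCentrallyLarge R := by
  unfold Cfsg.IsCentrallyLarge
  rw [card_map_iso, card_center_iso, maxCP_iso e]

theorem mcl_iff (R : Subgroup S) :
    Cfsg.IsMinimalCentrallyLarge (R.map e.toMonoidHom) ↔ Cfsg.IsMinimalCentrallyLarge R := by
  refine and_congr (cl_iff e R) ⟨fun h T hT hTc => ?_, fun h T hT hTc => ?_⟩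
  · exact Subgroup.map_injective e.injective (h _ (map_mono hT) ((cl_iff e T).2 hTc))
  · obtain ⟨T, rfl⟩ := exists_map_iso e T
    rw [h T ((Subgroup.map_le_map_iff_of_injective e.injective).1 hT) ((cl_iff e T).1 hTc)]

theorem map_mclJoin :
    (Cfsg.minimalCentrallyLargeJoin S).map e.toMonoidHom = Cfsg.minimalCentrallyLargeJoin H := by
  refine le_antisymm (map_le_iff_le_comap.2 (sSup_le fun A hA => map_le_iff_le_comap.1
    (le_sSup ((mcl_iff e A).2 hA)))) (sSup_le fun T hT => ?_)
  obtain ⟨A, rfl⟩ := exists_map_iso e T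
  exact map_mono (le_sSup ((mcl_iff e A).1 hT))

theorem card_oz_iso (R : Subgroup S) : Nat.card (Cfsg.omegaOneCenter p (R.map e.toMonoidHom)) =
    Nat.card (Cfsg.omegaOneCenter p R) := by
  unfold Cfsg.omegaOneCenter
  rw [← map_centralizer_iso, ← Subgroup.map_inf _ _ _ e.injective,
    ← Thompson.omegaOne_map_of_injective (p := p) (f := e.toMonoidHom) e.injective, card_map_iso]

theorem maxOz_iso (e : S ≃* H) :
    Cfsg.maxOmegaCenterOfMinimalCL p H = Cfsg.maxOmegaCenterOfMinimalCL p S := by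
  unfold Cfsg.maxOmegaCenterOfMinimalCL
  congr 1
  ext k
  constructor
  · rintro ⟨T, hT, rfl⟩
    obtain ⟨R, rfl⟩ := exists_map_iso e T
    exact ⟨R, (mcl_iff e R).1 hT, (card_oz_iso e R).symm⟩
  · rintro ⟨R, hR, rfl⟩
    exact ⟨_, (mcl_iff e R).2 hR, card_oz_iso e R⟩

theorem map_phiJoin [Finite S] [Finite H] :
    (Cfsg.frattiniOfMinimalCLJoin p S).map e.toMonoidHom = Cfsg.frattiniOfMinimalCLJoin p H := by
  unfold Cfsg.frattiniOfMinimalCLJoin
  rw [Subgroup.map_iSup]
  refine le_antisymm (iSup_le fun Q => ?_) (iSup_le fun Q => ?_)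
  · rw [← PushRankOne.phi_map (f := e.toMonoidHom) e.injective]
    exact le_iSup_of_le ⟨_, (mcl_iff e _).2 Q.2.1, by rw [card_oz_iso, Q.2.2, maxOz_iso e]⟩ le_rfl
  · obtain ⟨R, hR⟩ := exists_map_iso e Q.1
    have hR1 : Cfsg.IsMinimalCentrallyLarge R := (mcl_iff e R).1 (by rw [hR]; exact Q.2.1)
    refine le_iSup_of_le ⟨R, hR1, ?_⟩ ?_
    · rw [← card_oz_iso (p := p) e R, hR, Q.2.2, maxOz_iso e]
    · rw [← PushRankOne.phi_map (f := e.toMonoidHom) e.injective, hR]
      rfl

end Cfsg.Agent.PushFamily
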