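import Cfsg.Agent.PushFamily.Pair
import Cfsg.Agent.PushUp.Triple

/-!
# Triple commutators for two mutual paths
-/

set_option autoImplicit false
set_option linter.unusedSectionVars false

universe u

namespace Cfsg.Agent.PushFamily

open Subgroup
open Cfsg.Agent.PushUp (cent fix)
open scoped commutatorElement

variable {S : Type u} [Group S] [Finite S] {p : ℕ} [Fact p.Prime]

variable {F : Set (Sit p S)} (h : Hyp p S) (hF : Fam F) (hb : Short F 1)
  {a i : Sit p S} {k : i.G} {b c : Sit p S} {l : c.G} (o : One F a i k c) (o' : One F b c l i)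

include h hF hb o o'

/-- `[[z, y], y'] = [d, y']` for a suitable `d ∈ V_i`. -/
theorem triple_form {z y : S} (hz : z ∈ img a.V [⟨i, k⟩]) (hy : y ∈ img b.V [⟨c, l⟩]) :
    ∃ d ∈ i.V, ∀ y' ∈ img b.V [⟨c, l⟩], ⁅⁅z, y⁆, y'⁆ = ⁅d, y'⁆ := by
  set Y := img a.V [⟨i, k⟩] with hY
  set Y' := img b.V [⟨c, l⟩] with hY'
  set Q₁ := i.Q ⊓ c.Q with hQ₁
  have hD := derived_le_R h hF hb o o'
  -- `[z, y]` commutes with `Q₁`
  have hbot : ⁅⁅Y, Y'⁆, Q₁⁆ = ⊥ := by
    refine commutator_commutator_eq_bot_of_rotate ?_ ?_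
    · refine commutator_eq_bot_iff_le_centralizer.2 (commutator_le.2 fun u hu q hq => ?_)
      refine mem_centralizer_iff.2 fun w hw => ?_
      obtain ⟨d', hd', z', hz', e⟩ := Subgroup.mem_sup_of_normal_right.1
        (o'.derived_le h hF hb (commutator_mem_commutator (o'.img_le h hF hb hu) hq.2))
      rw [← e]
      exact ((o.z_derived h hF hb hw hd').mul_right (mem_center_iff.1 hz' w)).eq
    · refine commutator_eq_bot_iff_le_centralizer.2 (le_trans ?_ (center_le_centralizer _))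
      exact commutator_le.2 fun q hq w hw => by
        rw [← commutatorElement_inv]
        exact inv_mem (i.Zc_le (o.zq h hF hb hw hq.1))
  set e₀ := ⁅z, y⁆ with he₀
  have heQ₁ : e₀ ∈ Q₁ := mem_Q1_of h hF hb o o' (o.img_le h hF hb hz) hy
  have heC : ∀ q ∈ Q₁, Commute e₀ q := fun q hq =>
    (mem_centralizer_iff.1 (commutator_eq_bot_iff_le_centralizer.1 hbot
      (commutator_mem_commutator hz hy)) q hq).symm
  -- split along the reversed path and conjugate back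
  obtain ⟨e₁, he₁, ee₁⟩ := i.exists_conj heQ₁.1 k⁻¹
  obtain ⟨y₁, hy₁, q₂, hq₂, e⟩ := (o.rev h hF hb).split h hF hb he₁
  obtain ⟨w, hw, ew⟩ := (o.rev h hF hb).mem_img' h hF hb hy₁
  set d := w⁻¹ * e₀ with hd
  have hdk : i.emb d = k * i.emb q₂ * k⁻¹ := by
    have e1 : i.emb q₂ = (i.emb y₁)⁻¹ * i.emb e₁ := by
      rw [← e, map_mul, inv_mul_cancel_left]
    rw [e1, ew, ee₁, hd, map_mul, map_inv]
    group
  have hdY : ∀ u ∈ Y, Commute d u := by
    intro u hu
    obtain ⟨v, hv, ev⟩ := o.mem_img' h hF hb hu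
    refine i.emb_injective ?_
    rw [map_mul i.emb d u, map_mul i.emb u d, hdk, ev]
    have h1 := ((a.Q_comm hq₂.2 hv).map i.emb).map (MulAut.conj k).toMonoidHom
    simpa [mul_assoc] using h1.eq
  have hdQ : ∀ q ∈ Q₁, Commute d q := fun q hq =>
    ((c.Q_comm hq.2 hw).symm.inv_left).mul_left (heC q hq)
  have hdV : d ∈ i.V := by
    rw [← (i.Q_muMax h (hF.nc _ o.hi)).2]
    refine mem_centralizer_iff.2 fun q hq => ?_
    obtain ⟨u, hu, q₁, hq₁, rfl⟩ := o.split h hF hb hq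
    exact ((hdY u hu).mul_right (hdQ q₁ hq₁)).eq.symm
  refine ⟨d, hdV, fun y' hy' => ?_⟩
  have hwy : Commute w y' := (c.Q_comm (o'.img_le h hF hb hy') hw).symm
  have hdz := i.quad h (hF.nc _ o.hi) hdV y'
  rw [show e₀ = w * d by rw [hd, mul_inv_cancel_left],
    show ⁅w * d, y'⁆ = w * ⁅d, y'⁆ * w⁻¹ * ⁅w, y'⁆ by simp only [commutatorElement_def]; group,
    commutatorElement_eq_one_iff_mul_comm.2 hwy.eq, mul_one, mem_center_iff.1 hdz w,
    mul_inv_cancel_right]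

/-- Only the diagonal triples matter. -/
theorem triple_of_diag
    (hdiag : ∀ z ∈ img a.V [⟨i, k⟩], ∀ y ∈ img b.V [⟨c, l⟩], ⁅⁅z, y⁆, y⁆ ∈ i.R)
    {q y y' : S} (hq : q ∈ i.Q) (hy : y ∈ img b.V [⟨c, l⟩]) (hy' : y' ∈ img b.V [⟨c, l⟩]) :
    ⁅⁅q, y⁆, y'⁆ ∈ i.R := by
  have hi := hF.nc _ o.hi
  obtain ⟨z, hz, q₁, hq₁, rfl⟩ := o.split h hF hb hq
  have hq1C : ⁅q₁, y⁆ ∈ cen i.R :=
    sup_center_cen h hF hb o o' (Q1_comm h hF hb o o' hq₁ y)
  have hzy : ⁅⁅z, y⁆, y'⁆ ∈ i.R := by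
    by_cases hyQ : y ∈ i.Q
    · rw [commutatorElement_eq_one_iff_mul_comm.2
        (mem_center_iff.1 (i.Zc_le (o.zq h hF hb hz hyQ)) y').symm]
      exact one_mem _
    obtain ⟨d, hd, hform⟩ := triple_form h hF hb o o' hz hy
    have h1 := hdiag z hz y hy
    rw [hform y hy] at h1
    have hc : ⁅y, d⁆ ∈ i.Zc := by
      rw [← commutatorElement_inv]
      exact inv_mem (i.mem_Zc_of_R (i.quad h hi hd y) h1)
    rw [hform y' hy', commutatorElement_eq_one_iff_mul_comm.2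
      (mem_center_iff.1 (i.regular h hi hd hyQ hc) y').symm]
    exact one_mem _
  set π := QuotientGroup.mk' i.R with hπ
  have e : ⁅z * q₁, y⁆ = z * ⁅q₁, y⁆ * z⁻¹ * ⁅z, y⁆ := by
    simp only [commutatorElement_def]; group
  refine (QuotientGroup.eq_one_iff _).1 ?_
  show π _ = 1
  have h2 : Commute (π (z * ⁅q₁, y⁆ * z⁻¹)) (π y') :=
    (mem_center_iff.1 ((inferInstance : (cen i.R).Normal).conj_mem _ hq1C z) (π y')).symm
  have h3 : Commute (π ⁅z, y⁆) (π y') := by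
    refine commutatorElement_eq_one_iff_mul_comm.1 ?_
    rw [← map_commutatorElement]
    exact (QuotientGroup.eq_one_iff _).2 hzy
  rw [map_commutatorElement, commutatorElement_eq_one_iff_mul_comm, e, map_mul]
  exact (h2.mul_left h3).eq

/-- The diagonal for `p = 2`. -/
theorem diag_two (h2 : p = 2) {z y : S} (hz : z ∈ img a.V [⟨i, k⟩]) (hy : y ∈ img b.V [⟨c, l⟩]) :
    ⁅⁅z, y⁆, y⁆ ∈ i.R := by
  have hy2 : y * y = 1 := by
    rw [← pow_two, ← h2]
    exact o'.img_pow h hF hb hy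
  have hyi : y⁻¹ = y := inv_eq_of_mul_eq_one_right hy2
  have e : ⁅⁅z, y⁆, y⁆ = ⁅z, y⁆ ^ p := by
    subst h2
    simp only [commutatorElement_def, pow_two, mul_inv_rev, inv_inv, hyi, mul_assoc]
    congr 3
    simp [← mul_assoc, hy2]
  rw [e]
  exact pow_mem_R h hF hb o o' (mem_Q1_of h hF hb o o' (o.img_le h hF hb hz) hy).1

theorem card_Q_mul :
    Nat.card i.Q * Nat.card c.Q = Nat.card S * Nat.card (i.Q ⊓ c.Q : Subgroup S) := by
  have htop : i.Q ⊔ c.Q = ⊤ := top_le_iff.1 fun s _ => by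
    obtain ⟨y, hy, hq⟩ := cover h hF hb o.crit s
    have := mul_mem (mem_sup_left (T := c.Q) (o.img_le h hF hb hy)) (mem_sup_right (S := i.Q) hq)
    rwa [mul_inv_cancel_left] at this
  rw [← Core.card_sup_mul_card_inf, htop, Subgroup.card_top]

/-- `[O^p(G_i), Q_i]` is not inside `R_i V_i`. -/
theorem res_not_le' :
    ¬ ⁅Cfsg.pResidual p i.G, Cfsg.pCore p i.G⁆ ≤ i.R.map i.emb ⊔ i.Vg := by
  intro hle
  haveI : (i.R.map i.emb).Normal := by rw [i.map_R]; infer_instance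
  have hN : ⁅Cfsg.pResidual p i.G, i.R.map i.emb ⊔ i.Vg⁆ ≤ i.Vg := by
    refine commutator_le.2 fun g hg u hu => ?_
    obtain ⟨r, hr, v, hv, rfl⟩ := Subgroup.mem_sup_of_normal_right.1 hu
    rw [i.map_R] at hr
    have e : ⁅g, r * v⁆ = ⁅g, r⁆ * (r * ⁅g, v⁆ * r⁻¹) := by
      simp only [commutatorElement_def]; group
    rw [e, commutatorElement_eq_one_iff_mul_comm.2 (mem_centralizer_iff.1 hr.1 g hg), one_mul]
    exact (inferInstance : i.Vg.Normal).conj_mem _
      (commutator_le_right _ i.Vg (commutator_mem_commutator hg hv)) r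
  have hres := PushUp.res_trans (i.P.2.to_le i.QP) hle hN
  obtain ⟨v, hv, y, hy, hQ⟩ := o.crit.out
  obtain ⟨g, hg, g', hg', e⟩ := Subgroup.mem_sup_of_normal_left.1
    ((sup_comm (i.P : Subgroup i.G) _ ▸ Fusion.sylow_sup_pResidual i.P :
      Cfsg.pResidual p i.G ⊔ (i.P : Subgroup i.G) = ⊤).ge (mem_top k))
  obtain ⟨s, rfl⟩ := i.exists_emb hg'
  have hv' : s * v * s⁻¹ ∈ a.V := (inferInstance : a.V.Normal).conj_mem v hv s
  have h1 := hres (commutator_mem_commutator hg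
    (show i.emb (s * v * s⁻¹) ∈ Cfsg.pCore p i.G from V_le_Q_of hb o.crit.ha o.hi hv'))
  obtain ⟨v₁, hv₁, e₁⟩ := i.map_V.ge h1
  have e₂ : y = v₁ * (s * v * s⁻¹) := i.emb_injective (by
    rw [map_mul, e₁, show i.emb y = k * i.emb v * k⁻¹ from link_single.1 hy, ← e, map_mul, map_mul,
      map_inv]
    simp only [commutatorElement_def]
    group)
  refine hQ (e₂ ▸ c.Q.mul_mem (V_le_Q_of hb o.hi o.crit.hc hv₁) (V_le_Q_of hb o.crit.ha o.crit.hc hv'))

/-- The diagonal for `p ≥ 5`. -/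
theorem diag_big (h5 : 5 ≤ p) (hidx : Nat.card i.Q ≤ Nat.card c.Q) {z y : S}
    (hz : z ∈ img a.V [⟨i, k⟩]) (hy : y ∈ img b.V [⟨c, l⟩]) : ⁅⁅z, y⁆, y⁆ ∈ i.R := by
  obtain ⟨K₀, iK, iKf, n, hF', hiso⟩ := i.psl
  haveI : CharP K₀ p := charP_of_card_eq_prime_pow hF'
  haveI := i.st.hK
  have hq := PushUp.card_sylow i.st.toSetup₀ K₀ hiso
  rw [hF'] at hq
  have hi := hF.nc _ o.hi
  have hD := derived_le_R h hF hb o o'
  set Q₁ := i.Q ⊓ c.Q with hQ₁
  set Fs := Q₁ ⊔ i.R with hFs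
  haveI : Fs.Normal := by rw [hFs]; infer_instance
  haveI hRn : (i.R.map i.emb).Normal := by rw [i.map_R]; infer_instance
  have hFsQ : Fs ≤ i.Q := sup_le inf_le_left i.R_le_Q
  -- the noncentral chief factor at the top
  set Q := Cfsg.pCore p i.G with hQdef
  set N₁ := i.R.map i.emb ⊔ i.Vg with hN₁
  set U := ⁅Cfsg.pResidual p i.G, Q⁆ ⊔ N₁ with hU
  haveI : N₁.Normal := by rw [hN₁]; infer_instance
  haveI hUn : U.Normal := by rw [hU]; infer_instance
  have hRQ : i.R.map i.emb ≤ Q := fun g ⟨r, hr, e⟩ => e ▸ i.R_le_Q hr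
  have hUQ : U ≤ Q :=
    sup_le (commutator_le_right _ _) (sup_le hRQ (i.Vg_le.trans inf_le_left))
  have hlt : N₁ < U := lt_of_le_of_ne le_sup_right fun e =>
    res_not_le' h hF hb o o' (le_sup_left.trans e.ge)
  obtain ⟨W, ⟨hWn, hNW, hWU⟩, hmax⟩ := Set.exists_max_image
    {W : Subgroup i.G | W.Normal ∧ N₁ ≤ W ∧ W < U} (fun W => Nat.card W) (Set.toFinite _)
    ⟨N₁, inferInstance, le_rfl, hlt⟩
  haveI := hWn
  have hc : Cfsg.IsChiefFactor U W := by
    refine ⟨hWU, hUn, hWn, fun X hX hWX hXU => ?_⟩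
    by_cases e' : X = U
    · exact Or.inr e'
    · exact Or.inl (eq_of_le_of_card_ge hWX
        (hmax X ⟨hX, hNW.trans hWX, lt_of_le_of_ne hXU e'⟩)).symm
  have hnc : ¬ ⁅U, (⊤ : Subgroup i.G)⁆ ≤ W := by
    intro h'
    refine hWU.not_ge (sup_le ?_ hNW)
    refine PushUp.res_trans (i.P.2.to_le i.QP) (B := U) le_sup_left ?_
    exact (commutator_mono le_top le_rfl).trans (commutator_comm (⊤ : Subgroup i.G) U ▸ h')
  have hfixF : U ⊓ Fs.map i.emb ≤ fix (i.P : Subgroup i.G) U W := by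
    rintro g ⟨hgU, x, hx, rfl⟩
    refine ⟨hgU, fun t ht => ?_⟩
    obtain ⟨s, rfl⟩ := i.exists_emb ht
    obtain ⟨q₁, hq₁, r, hr, rfl⟩ := Subgroup.mem_sup_of_normal_right.1 hx
    have hs : ⁅q₁ * r, s⁆ ∈ i.R ⊔ center S := by
      rw [show ⁅q₁ * r, s⁆ = q₁ * ⁅r, s⁆ * q₁⁻¹ * ⁅q₁, s⁆ by
        simp only [commutatorElement_def]; group]
      refine mul_mem (mem_sup_left ((inferInstance : i.R.Normal).conj_mem _ ?_ q₁))
        (Q1_comm h hF hb o o' hq₁ s)
      exact commutator_le_left i.R ⊤ (commutator_mem_commutator hr (mem_top s))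
    rw [← map_commutatorElement]
    refine hNW ?_
    rw [← commutatorElement_inv, map_inv]
    refine inv_mem ?_
    obtain ⟨r', hr', z', hz', e⟩ := Subgroup.mem_sup_of_normal_right.1 hs
    rw [← e, map_mul]
    exact mul_mem (mem_sup_left ⟨r', hr', rfl⟩) (mem_sup_right (i.center_le_V hz'))
  have hQ : Nat.card Q = Nat.card i.Q := by
    rw [hQdef, ← i.map_Q, card_map_of_injective i.emb_injective]
  have hP : Nat.card (i.P : Subgroup i.G) = Nat.card S := (Nat.card_congr i.e.toEquiv).symm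
  have hcQ := card_Q_mul h hF hb o o'
  have hFQ : Fs.map i.emb ≤ Q := fun g ⟨x, hx, e⟩ => e ▸ hFsQ hx
  have e1 : Nat.card (U ⊔ Fs.map i.emb : Subgroup i.G) * Nat.card (U ⊓ Fs.map i.emb : Subgroup i.G) =
      Nat.card U * Nat.card (Fs.map i.emb) := by
    rw [sup_comm, inf_comm, mul_comm (Nat.card U)]
    exact Core.card_sup_mul_card_inf _ _
  have i1 := card_le_of_le (sup_le hUQ hFQ)
  have i2 : Nat.card Q₁ ≤ Nat.card (Fs.map i.emb) := by
    rw [card_map_of_injective i.emb_injective]; exact card_le_of_le le_sup_left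
  have hineq : Nat.card U * Nat.card Q ≤
      Nat.card (i.P : Subgroup i.G) * Nat.card (U ⊓ Fs.map i.emb : Subgroup i.G) := by
    refine Nat.le_of_mul_le_mul_right ?_ (Nat.card_pos (α := Q))
    calc Nat.card U * Nat.card Q * Nat.card Q
        ≤ Nat.card U * (Nat.card i.Q * Nat.card c.Q) := by
          rw [mul_assoc, hQ]; exact Nat.mul_le_mul_left _ (Nat.mul_le_mul_left _ hidx)
      _ = Nat.card S * (Nat.card U * Nat.card Q₁) := by rw [hcQ]; ring
      _ ≤ Nat.card S * (Nat.card U * Nat.card (Fs.map i.emb)) :=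
          Nat.mul_le_mul_left _ (Nat.mul_le_mul_left _ i2)
      _ ≤ Nat.card S * (Nat.card Q * Nat.card (U ⊓ Fs.map i.emb : Subgroup i.G)) := by
          rw [← e1]; exact Nat.mul_le_mul_left _ (Nat.mul_le_mul_right _ i1)
      _ = _ := by rw [hP]; ring
  obtain ⟨hN₂, hfc, hUc⟩ := natSec_of_chief i.st hF' hq hc hUQ hnc
    (hineq.trans (Nat.mul_le_mul_left _ (card_le_of_le hfixF)))
  have heqf : U ⊓ Fs.map i.emb = fix (i.P : Subgroup i.G) U W := by
    refine eq_of_le_of_card_ge hfixF ?_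
    refine Nat.le_of_mul_le_mul_left (le_trans ?_ hineq) (Nat.card_pos (α := (i.P : Subgroup i.G)))
    rw [hq, hfc, hUc]
    exact le_of_eq (by ring)
  have hsup : U ⊔ Fs.map i.emb = Q := by
    refine eq_of_le_of_card_ge (sup_le hUQ hFQ) ?_
    refine Nat.le_of_mul_le_mul_right ?_
      (Nat.mul_pos (Nat.card_pos (α := (U ⊓ Fs.map i.emb : Subgroup i.G))) (Nat.card_pos (α := S)))
    calc Nat.card Q * (Nat.card (U ⊓ Fs.map i.emb : Subgroup i.G) * Nat.card S)
        = Nat.card U * (Nat.card Q * Nat.card Q) := by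
          rw [heqf, hfc, ← hP, hq, hUc]; ring
      _ ≤ Nat.card U * (Nat.card i.Q * Nat.card c.Q) := by
          rw [hQ]; exact Nat.mul_le_mul_left _ (Nat.mul_le_mul_left _ hidx)
      _ = Nat.card S * (Nat.card U * Nat.card Q₁) := by rw [hcQ]; ring
      _ ≤ Nat.card S * (Nat.card U * Nat.card (Fs.map i.emb)) :=
          Nat.mul_le_mul_left _ (Nat.mul_le_mul_left _ i2)
      _ = _ := by rw [← e1]; ring
  -- the natural module `V / C_V(G)`
  set W₀ := i.Vg ⊓ center i.G with hW₀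
  haveI hW₀n : W₀.Normal := by rw [hW₀]; infer_instance
  obtain ⟨hN₁', hfixV⟩ := i.natSec_V h hi hF' hq
  obtain ⟨τ, hτS, hτ4, hτU, hτV⟩ := exists_torus i.st (by omega) hN₂ hN₁'
  choose f hf using fun s : S => i.exists_emb (hτS _ (i.emb_mem s))
  have hfm : ∀ s t, f (s * t) = f s * f t := fun s t => i.emb_injective (by
    rw [hf, map_mul, map_mul, hf, hf]; group)
  let φ : S →* S := MonoidHom.mk' f hfm
  -- work modulo `R`
  set π := QuotientGroup.mk' i.R with hπ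
  have hπ1 : ∀ x, π x = 1 ↔ x ∈ i.R := fun x => QuotientGroup.eq_one_iff x
  have hcen : ∀ q ∈ Fs, ∀ s, ⁅q, s⁆ ∈ cen i.R := fun q hq s => by
    obtain ⟨q₁, hq₁, r, hr, rfl⟩ := Subgroup.mem_sup_of_normal_right.1 hq
    rw [show ⁅q₁ * r, s⁆ = q₁ * ⁅r, s⁆ * q₁⁻¹ * ⁅q₁, s⁆ by
      simp only [commutatorElement_def]; group]
    refine mul_mem ((inferInstance : (cen i.R).Normal).conj_mem _ ?_ q₁)
      (sup_center_cen h hF hb o o' (Q1_comm h hF hb o o' hq₁ s))
    exact le_cen _ (commutator_le_left i.R ⊤ (commutator_mem_commutator hr (mem_top s)))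
  have hcov' := cover h hF hb o'.crit
  have hYY : ∀ u ∈ img b.V [⟨c, l⟩], ∀ u' ∈ img b.V [⟨c, l⟩], Commute u u' := fun u hu u' hu' =>
    o'.img_comm h hF hb hu hu'
  have hD1 : ⁅(⊤ : Subgroup S), (⊤ : Subgroup S)⁆ ≤ Fs :=
    derived_le_of hcov' i.R_le_Q hYY hD le_sup_right fun q hq u hu =>
      mem_sup_left (mem_Q1_of h hF hb o o' hq hu)
  have h3 : (⊤ : Subgroup (S ⧸ i.R)).lowerCentralSeries 3 = ⊥ := by
    have hπs : Function.Surjective π := QuotientGroup.mk'_surjective _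
    rw [← Subgroup.map_top_of_surjective π hπs, ← Subgroup.map_lowerCentralSeries,
      Subgroup.map_eq_bot_iff, QuotientGroup.ker_mk']
    refine (commutator_mono (commutator_le.2 fun x hx s _ => hcen x (hD1 hx) s) le_rfl).trans
      (commutator_cen_le i.R)
  have hQ1 : ∀ q ∈ i.Q, ∀ q' ∈ i.Q, π ⁅q, q'⁆ = 1 := fun q hq q' hq' =>
    (hπ1 _).2 (hD (commutator_mem_commutator hq hq'))
  have hconjQ : ∀ q ∈ i.Q, ∀ s, ⁅q, s⁆ ∈ i.Q := fun q hq s =>
    commutator_le_left i.Q ⊤ (commutator_mem_commutator hq (mem_top s))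
  have hmem : ∀ x : S ⧸ i.R, x ∈ (⊤ : Subgroup (S ⧸ i.R)) := mem_top
  -- reduce to `U`
  obtain ⟨u₀, hu₀, f₀, hf₀, e₀⟩ := Subgroup.mem_sup_of_normal_left.1
    (hsup.ge (show i.emb z ∈ Q from o.img_le h hF hb hz))
  obtain ⟨x, hxFs, rfl⟩ := hf₀
  obtain ⟨u, rfl⟩ := i.exists_emb (i.QP (hUQ hu₀))
  obtain rfl : u * x = z := i.emb_injective (by rw [map_mul, e₀])
  have hzero : ∀ q ∈ Fs, ∀ s t, ⁅⁅π q, π s⁆, π t⁆ = 1 := fun q hq s t => by
    rw [← map_commutatorElement, ← map_commutatorElement, hπ1]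
    exact mem_cen.1 (hcen q hq s) t
  have hT0 : π ⁅⁅u * x, y⁆, y⁆ = ⁅⁅π u, π y⁆, π y⁆ := by
    rw [map_commutatorElement, map_commutatorElement, map_mul,
      PushUp.triple_left h3 (hmem _) (hmem _) (hmem _) (hmem _), hzero x hxFs y y, mul_one]
  rw [← hπ1, hT0]
  have hu : u ∈ i.Q := hUQ hu₀
  -- `(τ u τ⁻¹)² u` is fixed
  have hφu : φ u ∈ i.Q := by
    rw [Sit.mem_Q, show i.emb (φ u) = _ from hf u]
    exact (inferInstance : Q.Normal).conj_mem _ hu τ
  have h1 : φ u ^ 2 * u ∈ Fs := by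
    have h' := hτU.2 (i.emb u) hu₀
    rw [← heqf] at h'
    obtain ⟨x', hx', e'⟩ := h'.2
    rwa [i.emb_injective (a₁ := φ u ^ 2 * u) (a₂ := x') (by
      rw [e', map_mul, map_pow, show i.emb (φ u) = _ from hf u])]
  set A := ⁅⁅π (φ u), π y⁆, π y⁆ with hA
  set t := ⁅⁅π u, π y⁆, π y⁆ with ht
  have eA : A * A * t = 1 := by
    have h' := hzero _ h1 y y
    rw [map_mul, map_pow, pow_two, PushUp.triple_left h3 (hmem _) (hmem _) (hmem _) (hmem _),
      PushUp.triple_left h3 (hmem _) (hmem _) (hmem _) (hmem _)] at h'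
    exact h'
  -- `τ y τ⁻¹ ≡ y⁴`
  obtain ⟨q, hq', hφy⟩ : ∃ q ∈ i.Q, φ y = y ^ 4 * q := by
    refine ⟨(y ^ 4)⁻¹ * φ y, ?_, (mul_inv_cancel_left _ _).symm⟩
    rw [Sit.mem_Q, map_mul, map_inv, map_pow, show i.emb (φ y) = _ from hf y]
    exact hτ4 _ (i.emb_mem y)
  have eφ : ⁅⁅π (φ u), π (φ y)⁆, π (φ y)⁆ = A ^ 16 := by
    have hq0 : ⁅π (φ u), π q⁆ = 1 := by rw [← map_commutatorElement]; exact hQ1 _ hφu _ hq'
    have hq1 : ⁅⁅π (φ u), π y ^ 4⁆, π q⁆ = 1 := by
      rw [← map_pow, ← map_commutatorElement, ← map_commutatorElement]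
      exact hQ1 _ (hconjQ _ hφu _) _ hq'
    rw [hφy, map_mul, map_pow, PushUp.triple_mid h3 (hmem _) (hmem _) (hmem _) (hmem _), hq0,
      commutatorElement_one_left, mul_one,
      PushUp.triple_right h3 (hmem _) (hmem _) (hmem _) (hmem _), hq1, mul_one,
      PushUp.triple_pow h3 (hmem _) (hmem _) (hmem _)]
  -- `τ` squares and inverts the value
  set T₀ := ⁅⁅u, y⁆, y⁆ with hT₀
  have hT₀Q : T₀ ∈ i.R ⊔ center S := by
    obtain ⟨z₁, hz₁, q₁, hq₁, e⟩ := o.split h hF hb hu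
    obtain ⟨d, hd, hform⟩ := triple_form h hF hb o o' hz₁ hy
    have hzd : ⁅⁅z₁, y⁆, y⁆ ∈ center S := by
      rw [hform y hy]; exact i.quad h hi hd y
    have e' : (π ⁅⁅z₁, y⁆, y⁆) = π T₀ := by
      rw [hT₀, ← e]
      simp only [map_commutatorElement, map_mul]
      rw [PushUp.triple_left h3 (hmem _) (hmem _) (hmem _) (hmem _),
        hzero q₁ (mem_sup_left hq₁) y y, mul_one]
    have h' := mul_mem (mem_sup_right (S := i.R) hzd)
      (mem_sup_left (T := center S) (QuotientGroup.eq.1 e'))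
    rwa [mul_inv_cancel_left] at h'
  have eT : π (φ T₀) * π T₀ ^ 2 = 1 := by
    obtain ⟨r, hr, z', hz', e'⟩ := Subgroup.mem_sup_of_normal_right.1 hT₀Q
    have hφr : φ r ∈ i.R := by
      obtain ⟨r', hr', er⟩ := hRn.conj_mem _ ⟨r, hr, rfl⟩ τ
      rwa [i.emb_injective (a₁ := φ r) (a₂ := r') (by rw [show i.emb (φ r) = _ from hf r, er])]
    have hφz : φ z' * z' ^ 2 ∈ i.R := by
      refine i.Zc_le_R ?_
      show i.emb (φ z' * z' ^ 2) ∈ center i.G
      rw [map_mul, map_pow, show i.emb (φ z') = _ from hf z']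
      exact (hτV.1 _ (hfixV ⟨z', hz', rfl⟩)).2
    rw [← e', map_mul φ, map_mul π, map_mul π, (hπ1 _).2 hφr, (hπ1 _).2 hr, one_mul, one_mul,
      ← map_pow, ← map_mul]
    exact (hπ1 _).2 hφz
  have hTt : π T₀ = t := by rw [hT₀, map_commutatorElement, map_commutatorElement]
  have hφT : π (φ T₀) = A ^ 16 := by
    rw [hT₀, map_commutatorElement φ, map_commutatorElement φ, map_commutatorElement π,
      map_commutatorElement π, eφ]
  rw [hφT, hTt] at eT
  have hAt : A ^ 2 = t⁻¹ := by rw [pow_two]; exact eq_inv_of_mul_eq_one_left eA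
  have h6 : t ^ 6 = 1 := by
    rw [show A ^ 16 = (A ^ 2) ^ 8 by rw [← pow_mul], hAt, inv_pow, inv_mul_eq_one] at eT
    refine mul_left_cancel (a := t ^ 2) ?_
    rw [mul_one, ← pow_add]
    exact eT
  have hp' : t ^ p = 1 := by
    rw [← hTt, ← map_pow, hπ1]
    exact pow_mem_R h hF hb o o' (hconjQ _ (hconjQ _ hu _) _)
  have hg := (pow_gcd_eq_one (a := t)).2 ⟨h6, hp'⟩
  rwa [show Nat.gcd 6 p = 1 from ((Fact.out : p.Prime).coprime_iff_not_dvd.2 fun hd => by
    have hp := (Fact.out : p.Prime)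
    rcases hp.dvd_mul.1 (show p ∣ 2 * 3 from hd) with hd' | hd'
    · have := Nat.le_of_dvd (by norm_num) hd'; omega
    · have := Nat.le_of_dvd (by norm_num) hd'; omega).symm, pow_one] at hg

theorem good_pair (hidx : Nat.card i.Q ≤ Nat.card c.Q) : s0 p S ≤ i.R := by
  have hcov := cover h hF hb o'.crit
  refine s0_le hcov i.R_le_Q (fun y hy y' hy' => o'.img_comm h hF hb hy hy')
    (fun y hy => o'.img_pow h hF hb hy) (derived_le_R h hF hb o o')
    (fun q hq => pow_mem_R h hF hb o o' hq) ?_ ?_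
  · intro hp3 q hq y hy y' hy'
    refine triple_of_diag h hF hb o o' (fun z hz u hu => ?_) hq hy hy'
    by_cases h2 : p = 2
    · exact diag_two h hF hb o o' h2 hz hu
    · refine diag_big h hF hb o o' ?_ hidx hz hu
      by_contra hlt
      have hp := (Fact.out : p.Prime)
      have := hp.two_le
      have h4 : p = 4 := by omega
      rw [h4] at hp
      norm_num at hp
  · intro q hq y hy y' _ y'' _
    refine mem_cen.1 (sup_center_cen h hF hb o o' ?_) y''
    exact Q1_comm h hF hb o o' (mem_Q1_of h hF hb o o' hq hy) y'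

end Cfsg.Agent.PushFamily
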