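import Cfsg.Agent.PushFamily.Closure
import Cfsg.Agent.PushFamily.Tri
import Cfsg.Agent.PushFamily.Base

/-!
# A pair of characteristic subgroups for all situations of a fixed `S`
-/

set_option autoImplicit false
set_option linter.unusedSectionVars false

universe u

namespace Cfsg.Agent.PushFamily

open Subgroup
open Cfsg.Agent.CentLarge (IsMuMax)
open scoped commutatorElement

variable {S : Type u} [Group S] [Finite S] {p : ℕ} [Fact p.Prime]

/-- The situations in which `X` is not central. -/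
def famOf (X : Subgroup S) : Set (Sit p S) := {i | ¬ X ≤ i.Zc}

theorem famOf_fam {X : Subgroup S} [hX : X.Characteristic] (hXZ : X ≤ center S) :
    Fam (famOf (p := p) X) where
  nc := fun _ hi hle => hi (hXZ.trans hle)
  twist := fun i hi β hle => hi fun x hx => by
    rw [twist_Zc] at hle
    have h1 := hle ((characteristic_iff_map_le.1 hX β.symm) ⟨x, hx, rfl⟩)
    simpa using h1

theorem nrm_twist {i e : Sit p S} {β : MulAut S} (h : Nrm i e) :
    Nrm (i.twist β) (e.twist β) := by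
  unfold Nrm at h ⊢
  rw [twist_V, twist_V, Subgroup.comap_sup_eq _ _ _ β.surjective]
  show (((i.V ⊔ e.V).comap β.toMonoidHom).map (i.emb.comp β.toMonoidHom)).Normal
  rwa [← Subgroup.map_map, Subgroup.map_comap_eq_self_of_surjective β.surjective]

theorem twist_V_inv (a : Sit p S) (β : MulAut S) {a' : Sit p S} (h : a'.V = (a.twist β).V) :
    (a'.twist β.symm).V = a.V := by
  rw [twist_V, h, twist_V, Subgroup.comap_comap]
  ext x
  simp

/-- `(a.twist β).twist β⁻¹` normalises what `a` does. -/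
theorem nrm_of_twist {i e : Sit p S} {β : MulAut S} (h : Nrm (i.twist β.symm) (e.twist β.symm)) :
    Nrm i e := by
  have h1 := nrm_twist (β := β) h
  have e1 : ∀ j : Sit p S, ((j.twist β.symm).twist β).emb = j.emb := fun j => by
    ext s
    show j.emb (β.symm (β s)) = j.emb s
    rw [MulEquiv.symm_apply_apply]
  have e2 : ∀ j : Sit p S, ((j.twist β.symm).twist β).V = j.V := fun j => by
    rw [twist_V, twist_V, Subgroup.comap_comap]
    ext x
    simp
  unfold Nrm at h1 ⊢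
  rw [e1, e2, e2] at h1
  exact h1

/-- One middle group without sinks. -/
theorem good_one (h : Hyp p S) {F : Set (Sit p S)} (hF : Fam F) (hb : Short F 1) (hs : NoSink F)
    {a c : Sit p S} {L : List (Step p S)} (hC : Crit F 1 a L c) :
    ∃ i ∈ F, s0 p S ≤ i.R := by
  obtain ⟨⟨i, k⟩, rfl⟩ := List.length_eq_one_iff.1 hC.len
  obtain ⟨a', ha', hVa, e, he, hne⟩ := hs a hC.ha
  obtain ⟨k₁, hk₁⟩ := a'.exists_gen
  have hP₁ : Crit F 1 e [⟨a', k₁⟩] i :=
    shift h hF hb (L := []) (sl := ⟨i, k⟩) hC ha' hVa he hne k₁ hk₁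
  have hiF : i ∈ F := hP₁.hc
  obtain ⟨i', hi', hVi, e', he', hne'⟩ := hs i hiF
  obtain ⟨k₂, hk₂⟩ := i'.exists_gen
  have hP₂ : Crit F 1 e' [⟨i', k₂⟩] a' :=
    shift h hF hb (L := []) (sl := rstep ⟨a', k₁⟩) (crit_rev h hF hb hP₁) hi' hVi he' hne' k₂ hk₂
  have hQ : i'.Q = i.Q := by
    rw [i'.Q_eq h (hF.nc _ hi'), i.Q_eq h (hF.nc _ hiF), hVi]
  have o₁ : One F e a' k₁ i' := ⟨⟨hP₁.ha, hi', hP₁.hL, hP₁.len, by rw [hQ]; exact hP₁.out⟩, hk₁⟩
  have o₂ : One F e' i' k₂ a' := ⟨hP₂, hk₂⟩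
  rcases le_total (Nat.card a'.Q) (Nat.card i'.Q) with hle | hle
  · exact ⟨a', ha', good_pair h hF hb o₁ o₂ hle⟩
  · exact ⟨i', hi', good_pair h hF hb o₂ o₁ hle⟩

/-- The conclusion for the main case. -/
def Out (p : ℕ) (S : Type u) [Group S] [Finite S] : Prop :=
  ∃ S₁ S₂ : Subgroup S, S₁ ≠ ⊥ ∧ S₁.Characteristic ∧ S₁ ≤ center S ∧ S₂.Characteristic ∧
    IsMuMax S₂ ∧ centralizer (S₂ : Set S) ≤ S₂ ∧
    ∀ i : Sit p S, S₁ ≤ i.Zc ∨ (S₂.map i.emb).Normal

theorem induct (h : Hyp p S) :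
    ∀ (N : ℕ) (X : Subgroup S), Nat.card X ≤ N → X.Characteristic → X ≠ ⊥ →
      X ≤ center S ⊓ s0 p S →
      (∀ e : Sit p S, ¬ X ≤ e.Zc → ⁅e.V, (⊤ : Subgroup S)⁆ ⊓ X ≠ ⊥) → Out p S := by
  intro N
  induction N with
  | zero => exact fun X hc => absurd hc (by have := Nat.card_pos (α := X); omega)
  | succ N ih =>
    intro X hcard hXc hXne hX0 hinv
    classical
    set F := famOf (p := p) X with hFdef
    have hF : Fam F := famOf_fam (hX0.trans inf_le_left)
    by_cases hno : ∀ a ∈ F, ∀ c ∈ F, ∀ L, Inside F L → ∀ v ∈ a.V, ∀ y, Link L v y → y ∈ c.Q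
    · obtain ⟨S₂, h1, h2, h3, h4⟩ := solved_of_no_crit h hF hno
      refine ⟨X, S₂, hXne, hXc, hX0.trans inf_le_left, h1, h2, h3, fun i => ?_⟩
      by_cases hi : X ≤ i.Zc
      · exact Or.inl hi
      · exact Or.inr (h4 i hi)
    have hex : ∃ m, ∃ a c L, Crit F m a L c := by
      push Not at hno
      obtain ⟨a, ha, c, hc, L, hL, v, hv, y, hy, hQ⟩ := hno
      exact ⟨L.length, a, c, L, ⟨ha, hc, hL, rfl, v, hv, y, hy, hQ⟩⟩
    set m := Nat.find hex with hm
    have hb : Short F m := by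
      intro a ha c hc L hL hlt v hv y hy
      by_contra hQ
      exact Nat.find_min hex hlt ⟨a, c, L, ⟨ha, hc, hL, rfl, v, hv, y, hy, hQ⟩⟩
    obtain ⟨a, c, L, hC⟩ := Nat.find_spec hex
    rw [← hm] at hC
    rcases Nat.eq_zero_or_pos m with hm0 | hm0
    · rw [hm0] at hC hb
      exact absurd (c.le_Zc_of_s0 (good_zero h hF hb hC) hX0) hC.hc
    by_cases hs : NoSink F
    · exfalso
      rcases Nat.lt_or_ge m 2 with hm2 | hm2
      · rw [show m = 1 by omega] at hC hb
        obtain ⟨i, hi, hR⟩ := good_one h hF hb hs hC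
        exact hi (i.le_Zc_of_s0 hR hX0)
      · exact no_long h hF hb hs hm2 hC
    unfold NoSink at hs
    push Not at hs
    obtain ⟨a₀, ha₀, hsink⟩ := hs
    set Sk : Set (Sit p S) :=
      {b | b ∈ F ∧ ∀ b' ∈ F, b'.V = b.V → ∀ e ∈ F, Nrm b' e} with hSk
    set X' := X ⊓ ⨅ b : Sk, b.1.Zc with hX'
    have hVQ : ∀ x ∈ F, ∀ y ∈ F, x.V ≤ y.Q := fun x hx y hy v hv =>
      hb x hx y hy [] (fun s hs' => by simp at hs') (by simpa using hm0) v hv v rfl
    have hC' : ∀ e ∈ F, e ∉ Sk → ⁅e.V, (⊤ : Subgroup S)⁆ ⊓ X ≤ X' := by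
      intro e he hne x hx
      refine ⟨hx.2, mem_iInf.2 fun ⟨b, hbF, hbn⟩ => ?_⟩
      refine comm_le_of_nrm h (hF.nc _ hbF) (hF.nc _ he) (hVQ e he b hbF) (fun hV => ?_)
        (hbn b hbF rfl e he) hx.1
      exact hne ⟨he, fun b' hb' hV' => hbn b' hb' (hV'.trans hV.symm)⟩
    obtain ⟨g, L', rfl⟩ : ∃ g L', L = g :: L' := by
      rcases L with _ | ⟨g, L'⟩
      · have := hC.len; simp at this; omega
      · exact ⟨g, L', rfl⟩
    have hgF : g.1 ∈ F := hC.hL g (List.mem_cons_self ..)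
    have hgSk : g.1 ∉ Sk := fun hg => first_not_nrm h hF hb hC (hg.2 g.1 hgF rfl a hC.ha)
    have hne' : X' ≠ ⊥ := fun e => hinv g.1 hgF (le_bot_iff.1 (e ▸ hC' g.1 hgF hgSk))
    have hlt : Nat.card X' < Nat.card X := by
      refine lt_of_le_of_ne (card_le_of_le inf_le_left) fun e => ha₀ ?_
      intro x hx
      exact mem_iInf.1 ((eq_of_le_of_card_ge (inf_le_left : X' ≤ X) e.ge).ge hx).2
        ⟨a₀, ha₀, hsink⟩
    have hchar : X'.Characteristic := by
      refine characteristic_iff_map_le.2 fun β => ?_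
      rintro _ ⟨x, hx, rfl⟩
      refine ⟨(characteristic_iff_map_le.1 hXc β) ⟨x, hx.1, rfl⟩, mem_iInf.2 fun ⟨b, hbF, hbn⟩ => ?_⟩
      have hmem : b.twist β ∈ Sk := by
        refine ⟨hF.twist b hbF β, fun b' hb' hV e he => nrm_of_twist (β := β) ?_⟩
        exact hbn _ (hF.twist b' hb' β.symm) (twist_V_inv b β hV) _ (hF.twist e he β.symm)
      exact mem_iInf.1 hx.2 ⟨b.twist β, hmem⟩
    refine ih X' (by omega) hchar hne' (inf_le_left.trans hX0) fun e he => ?_
    have heF : e ∈ F := fun hle => he (inf_le_left.trans hle)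
    have heSk : e ∉ Sk := fun hmem => he fun x hx => mem_iInf.1 hx.2 ⟨e, hmem⟩
    intro hbot
    refine hinv e heF (le_bot_iff.1 (hbot ▸ le_inf inf_le_left (hC' e heF heSk)))

/-- The main case. -/
theorem main (h : Hyp p S) (hne : center S ⊓ s0 p S ≠ ⊥) : Out p S := by
  haveI : (center S ⊓ s0 p S).Characteristic := characteristic_iff_comap_eq.2 fun ψ => by
    rw [Subgroup.comap_inf, characteristic_iff_comap_eq.1 inferInstance ψ,
      characteristic_iff_comap_eq.1 inferInstance ψ]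
  exact induct h _ _ le_rfl inferInstance hne le_rfl fun e he => base h e he

end Cfsg.Agent.PushFamily
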