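import Cfsg.Agent.PushFamily.Path

/-!
# Shifting: no long critical path without sinks
-/

set_option autoImplicit false
set_option linter.unusedSectionVars false

universe u

namespace Cfsg.Agent.PushFamily

open Subgroup
open Cfsg.Agent.Offender (cj mem_cj)
open Cfsg.Agent.CentLarge (IsMuMax)
open scoped commutatorElement

variable {S : Type u} [Group S] [Finite S] {p : ℕ} [Fact p.Prime]

/-- `V_i V_e` is normal in the group of `i`. -/
def Nrm (i e : Sit p S) : Prop := ((i.V ⊔ e.V).map i.emb).Normal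

/-- Every `V` has, in some group realising it, a partner that fails `Nrm`. -/
def NoSink (F : Set (Sit p S)) : Prop :=
  ∀ a ∈ F, ∃ a' ∈ F, a'.V = a.V ∧ ∃ e ∈ F, ¬ Nrm a' e

theorem comm_eq_left {v y t : S} (hc : Commute (y⁻¹ * t) v) : ⁅v, t⁆ = ⁅v, y⁆ := by
  have h1 := hc.inv_right.eq
  calc ⁅v, t⁆ = v * y * ((y⁻¹ * t) * v⁻¹) * t⁻¹ := by simp only [commutatorElement_def]; group
    _ = v * y * (v⁻¹ * (y⁻¹ * t)) * t⁻¹ := by rw [h1]
    _ = _ := by simp only [commutatorElement_def]; group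

theorem comm_eq_right {v y t : S} (hc : Commute (y⁻¹ * t) v) : ⁅t, v⁆ = ⁅y, v⁆ := by
  rw [← commutatorElement_inv v t, comm_eq_left hc, commutatorElement_inv]

/-- If `V_i V_e` is normal and the two differ, then `[V_e, S]` is central. -/
theorem comm_le_of_nrm (h : Hyp p S) {i e : Sit p S} (hi : i.Nc) (he : e.Nc) (hsub : e.V ≤ i.Q)
    (hne : i.V ≠ e.V) (hn : Nrm i e) : ⁅e.V, (⊤ : Subgroup S)⁆ ≤ i.Zc := by
  set Z := center S with hZ
  have hinf : i.V ⊓ e.V = Z := by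
    refine le_antisymm (fun v hv => ?_) (le_inf i.center_le_V e.center_le_V)
    by_contra hvz
    exact hne (i.V_eq_of_mem h hi he hv.1 hv.2 hvz)
  -- `S = Q_i Q_e`
  have e1 := Core.card_sup_mul_card_inf i.V e.V
  have e2 := Core.card_sup_mul_card_inf i.Q e.Q
  have hN := ((i.V_muMax h hi).sup_inf (e.V_muMax h he)).1
  have e3 := h.mu_eq hN
  unfold CentLarge.mu at e3
  rw [CentLarge.centralizer_sup, ← i.Q_eq h hi, ← e.Q_eq h he] at e3
  rw [hinf] at e1
  have e4 := i.card_VQ h hi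
  have e5 := e.card_VQ h he
  have hS : Nat.card (i.Q ⊔ e.Q : Subgroup S) = Nat.card S := by
    have hpos : 0 < Nat.card (i.V ⊔ e.V : Subgroup S) * Nat.card (i.Q ⊓ e.Q : Subgroup S) :=
      Nat.mul_pos Nat.card_pos Nat.card_pos
    refine Nat.eq_of_mul_eq_mul_right (Nat.mul_pos hpos (Nat.card_pos (α := Z))) ?_
    calc Nat.card (i.Q ⊔ e.Q : Subgroup S) *
          (Nat.card (i.V ⊔ e.V : Subgroup S) * Nat.card (i.Q ⊓ e.Q : Subgroup S) * Nat.card Z)
        = (Nat.card (i.Q ⊔ e.Q : Subgroup S) * Nat.card (i.Q ⊓ e.Q : Subgroup S)) *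
          (Nat.card (i.V ⊔ e.V : Subgroup S) * Nat.card Z) := by ring
      _ = (Nat.card i.V * Nat.card i.Q) * (Nat.card e.V * Nat.card e.Q) := by rw [e1, e2]; ring
      _ = (Nat.card S * Nat.card Z) * (Nat.card S * Nat.card Z) := by rw [e4, e5]
      _ = Nat.card S * (Nat.card (i.V ⊔ e.V : Subgroup S) * Nat.card (i.Q ⊓ e.Q : Subgroup S) *
          Nat.card Z) := by rw [e3]; ring
  have htop : i.Q ⊔ e.Q = ⊤ := Subgroup.eq_top_of_card_eq _ hS
  have hcomm : ⁅i.V ⊔ e.V, i.Q⁆ ≤ Z := by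
    refine commutator_le.2 fun w hw t _ => ?_
    obtain ⟨v, hv, v', hv', rfl⟩ := Subgroup.mem_sup_of_normal_right.1 hw
    have e6 : ⁅v * v', t⁆ = v * ⁅v', t⁆ * v⁻¹ * ⁅v, t⁆ := by
      simp only [commutatorElement_def]; group
    rw [e6]
    exact mul_mem ((inferInstance : (center S).Normal).conj_mem _ (e.quad h he hv' t) v)
      (i.quad h hi hv t)
  haveI : ((i.V ⊔ e.V).map i.emb).Normal := hn
  haveI : (⁅(i.V ⊔ e.V).map i.emb, Cfsg.pCore p i.G⁆).Normal := inferInstance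
  have hcen : ⁅(i.V ⊔ e.V).map i.emb, Cfsg.pCore p i.G⁆ ≤ center i.G := by
    refine i.normal_center ?_
    rw [← i.map_Q, ← map_commutator]
    exact map_mono hcomm
  refine commutator_le.2 fun v hv s _ => ?_
  obtain ⟨q, hq, q', hq', rfl⟩ := Subgroup.mem_sup_of_normal_right.1 (htop.ge (mem_top s))
  have e7 : ⁅v, q * q'⁆ = ⁅v, q⁆ := by
    refine comm_eq_left ?_
    rw [inv_mul_cancel_left]
    exact e.Q_comm hq' hv
  rw [e7]
  show i.emb ⁅v, q⁆ ∈ center i.G
  rw [map_commutatorElement]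
  exact hcen (commutator_mem_commutator ⟨v, mem_sup_right hv, rfl⟩ hq)

theorem nrm_of_eq {i e : Sit p S} (h : e.V = i.V) : Nrm i e := by
  unfold Nrm
  rw [h, sup_idem, i.map_V]
  infer_instance

variable {F : Set (Sit p S)} {m : ℕ} (h : Hyp p S) (hF : Fam F) (hb : Short F m)
  {a c : Sit p S}

include h hF hb

/-- The last group of a critical path does not normalise its pair. -/
theorem last_not_nrm {L : List (Step p S)} {g : Step p S} (hC : Crit F m a (L ++ [g]) c) :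
    ¬ Nrm g.1 c := by
  intro hN
  obtain ⟨v, hv, y, hy, hQ⟩ := hC.out
  obtain ⟨u, hu, hg⟩ := link_append.1 hy
  rw [link_single] at hg
  have hlen : L.length < m := by
    have := hC.len
    simp at this; omega
  have hL : Inside F L := fun s hs => hC.hL s (List.mem_append_left _ hs)
  have hgF : g.1 ∈ F := hC.hL g (by simp)
  have h1 : g.1.V ⊔ c.V ≤ centralizer ({u} : Set S) :=
    sup_le (fun w hw => mem_centralizer_singleton_iff.2
        (g.1.Q_comm (hb a hC.ha g.1 hgF L hL hlen v hv u hu) hw).eq.symm)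
      (fun w hw => mem_centralizer_singleton_iff.2
        (c.Q_comm (hb a hC.ha c hC.hc L hL hlen v hv u hu) hw).eq.symm)
  refine hQ (c.mem_Q_of_comm h (hF.nc _ hC.hc) fun w hw => ?_)
  haveI : ((g.1.V ⊔ c.V).map g.1.emb).Normal := hN
  obtain ⟨w', hw', e⟩ := (inferInstance : ((g.1.V ⊔ c.V).map g.1.emb).Normal).conj_mem _
    ⟨w, mem_sup_right hw, rfl⟩ g.2⁻¹
  have h2 : Commute (g.1.emb u) (g.1.emb w') :=
    (show Commute u w' from (mem_centralizer_singleton_iff.1 (h1 hw')).symm).map g.1.emb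
  rw [e, inv_inv] at h2
  refine (show Commute y w from g.1.emb_injective ?_)
  rw [map_mul, map_mul, show g.1.emb y = g.2 * g.1.emb u * g.2⁻¹ from hg]
  simpa [mul_assoc] using (h2.map (MulAut.conj g.2).toMonoidHom).eq

/-- The first group does not normalise its pair. -/
theorem first_not_nrm {L : List (Step p S)} {g : Step p S} (hC : Crit F m a (g :: L) c) :
    ¬ Nrm g.1 a := by
  have hR := crit_rev h hF hb hC
  rw [rpath_cons] at hR
  exact last_not_nrm h hF hb (g := rstep g) hR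

/-- Shifting a critical path backwards. -/
theorem shift {L : List (Step p S)} {sl : Step p S} (hC : Crit F m a (L ++ [sl]) c) {a' e : Sit p S}
    (ha' : a' ∈ F) (hV : a'.V = a.V) (he : e ∈ F) (hne : ¬ Nrm a' e) (k : a'.G)
    (hk : (a'.P : Subgroup a'.G) ⊔ cj k (a'.P : Subgroup a'.G) = ⊤) :
    Crit F m e (⟨a', k⟩ :: L) sl.1 := by
  have hlen : L.length + 1 = m := by simpa using hC.len
  have hLsl : Inside F (L ++ [sl]) := hC.hL
  have hslF : sl.1 ∈ F := hLsl sl (by simp)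
  have hL : Inside F L := fun s hs => hLsl s (List.mem_append_left _ hs)
  have hLn : Inside F (⟨a', k⟩ :: L) := fun s hs => by
    rcases List.mem_cons.1 hs with rfl | hs
    · exact ha'
    · exact hL s hs
  refine ⟨he, hslF, hLn, by simpa using hlen, ?_⟩
  by_contra hcon
  push Not at hcon
  have hQe : e.V ≤ a'.Q := fun w hw =>
    hb e he a' ha' [] (fun s hs => by simp at hs) (by simp; omega) w hw w rfl
  set N := a'.Vg ⊔ cj k (e.V.map a'.emb) with hN
  have hP : ∀ s : S, ∀ g ∈ cj k (e.V.map a'.emb),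
      (k * a'.emb s * k⁻¹) * g * (k * a'.emb s * k⁻¹)⁻¹ ∈ cj k (e.V.map a'.emb) := by
    intro s g hg
    obtain ⟨w, hw, e'⟩ := mem_cj.1 hg
    refine mem_cj.2 ⟨s * w * s⁻¹, (inferInstance : e.V.Normal).conj_mem w hw s, ?_⟩
    rw [map_mul, map_mul, map_inv, e']
    group
  have hQY : ∀ q ∈ a'.Q, ∀ g ∈ cj k (e.V.map a'.emb),
      a'.emb q * g * (a'.emb q)⁻¹ ∈ cj k (e.V.map a'.emb) := by
    intro q hq g hg
    obtain ⟨q', -, eq'⟩ := a'.exists_conj hq k⁻¹
    have := hP q' g hg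
    rw [eq', inv_inv] at this
    simpa [mul_assoc] using this
  have hVn : ∀ g : a'.G, ∀ z ∈ a'.Vg, g * z * g⁻¹ ∈ N := fun g z hz =>
    mem_sup_left ((inferInstance : a'.Vg.Normal).conj_mem z hz g)
  have hnS : ∀ s : S, ∀ z ∈ N, a'.emb s * z * (a'.emb s)⁻¹ ∈ N := by
    intro s z hz
    suffices hle : N ≤ N.comap (MulAut.conj (a'.emb s)).toMonoidHom from hle hz
    refine sup_le (fun z hz => hVn _ z hz) fun g hg => ?_
    show a'.emb s * g * (a'.emb s)⁻¹ ∈ N
    obtain ⟨u', hu', hq⟩ := cover h hF hb (crit_rev h hF hb hC) s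
    obtain ⟨w, hw, hlu⟩ := mem_img.1 hu'
    have hlu := hlu.of_rev
    have hq : u'⁻¹ * s ∈ a'.Q := by
      rw [a'.Q_eq h (hF.nc _ ha'), hV, ← a.Q_eq h (hF.nc _ hC.ha)]; exact hq
    obtain ⟨g', hg'Y, hgg⟩ : ∃ g', g' ∈ cj k (e.V.map a'.emb) ∧
        a'.emb s * g * (a'.emb s)⁻¹ = a'.emb u' * g' * (a'.emb u')⁻¹ :=
      ⟨_, hQY _ hq g hg, by rw [map_mul, map_inv]; group⟩
    rw [hgg]
    obtain ⟨e₀, he₀, ee⟩ := mem_cj.1 hg'Y
    obtain ⟨η, -, hη⟩ := a'.exists_conj (hQe he₀) k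
    have hηg : a'.emb η = g' := by rw [hη, ee]; group
    obtain ⟨y1, hy1⟩ := link_exists hb hLn (by simp; omega) he he₀
    obtain ⟨y', -, hy'⟩ := sl.1.exists_conj (hcon e₀ he₀ y1 hy1) sl.2
    obtain ⟨η', hη', hrest⟩ := hy1
    obtain rfl : η = η' := a'.emb_injective (hη.trans hη'.symm)
    have hlη : Link (L ++ [sl]) η y' := link_append.2 ⟨y1, hrest, link_single.2 hy'⟩
    obtain ⟨b', hb', hqc⟩ := cover h hF hb hC y'
    obtain ⟨z0, hz0, hlb⟩ := mem_img.1 hb'
    have h1 : ⁅η, u'⁆ = ⁅z0, u'⁆ := by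
      refine (hlη.comm hlu).left_unique ?_
      rw [comm_eq_right (c.Q_comm hqc hw)]
      exact hlb.comm hlu
    have h2 : ⁅η, u'⁆ ∈ a'.V := by
      rw [h1, hV, commutatorElement_def, mul_assoc, mul_assoc, ← mul_assoc u']
      exact mul_mem hz0 ((inferInstance : a.V.Normal).conj_mem _ (inv_mem hz0) u')
    rw [← hηg, show a'.emb u' * a'.emb η * (a'.emb u')⁻¹ = a'.emb (⁅η, u'⁆⁻¹) * a'.emb η by
      rw [map_inv, map_commutatorElement, commutatorElement_def]; group, hηg]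
    exact mul_mem (mem_sup_left (a'.V.inv_mem h2)) (mem_sup_right hg'Y)
  have hnk : ∀ g ∈ cj k (a'.P : Subgroup a'.G), ∀ z ∈ N, g * z * g⁻¹ ∈ N := by
    intro g hg z hz
    suffices hle : N ≤ N.comap (MulAut.conj g).toMonoidHom from hle hz
    refine sup_le (fun z hz => hVn _ z hz) fun w hw => mem_sup_right ?_
    obtain ⟨s, hs⟩ := a'.exists_emb (mem_cj.1 hg)
    have := hP s w hw
    rw [hs] at this
    simpa [mul_assoc] using this
  have hnP : ∀ g ∈ (a'.P : Subgroup a'.G), ∀ z ∈ N, g * z * g⁻¹ ∈ N := by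
    intro g hg z hz
    obtain ⟨s, rfl⟩ := a'.exists_emb hg
    exact hnS s z hz
  haveI hNn : N.Normal := by
    rw [← normalizer_eq_top_iff]
    refine top_le_iff.1 (hk ▸ sup_le ?_ ?_) <;>
      exact Subgroup.le_normalizer_iff.mpr (by assumption)
  refine hne ?_
  have e' : cj k⁻¹ N = (a'.V ⊔ e.V).map a'.emb := by
    rw [hN, Subgroup.map_sup a'.V e.V a'.emb, a'.map_V]
    show (a'.Vg ⊔ cj k (e.V.map a'.emb)).map _ = _
    rw [Subgroup.map_sup]
    refine congrArg₂ _ (Offender.cj_eq_self (A := a'.Vg) (x := k⁻¹) ?_) ?_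
    · rw [normalizer_eq_top]; exact mem_top _
    · show cj k⁻¹ (cj k _) = _
      rw [Offender.cj_cj, inv_mul_cancel, Offender.cj_one]
  unfold Nrm
  rw [← e', Offender.cj_eq_self (by rw [normalizer_eq_top]; exact mem_top _)]
  exact hNn

theorem pair_not_nrm (hs : NoSink F) {R : List (Step p S)} {g s : Step p S} :
    ∀ (a c : Sit p S) (L1 : List (Step p S)), Crit F m a (L1 ++ g :: s :: R) c →
      ¬ Nrm g.1 s.1 := by
  induction R using List.reverseRecOn with
  | nil =>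
    intro a c L1 hC
    obtain ⟨a', ha', hV, e, he, hne⟩ := hs a hC.ha
    obtain ⟨k, hk⟩ := a'.exists_gen
    have := shift h hF hb (L := L1 ++ [g]) (sl := s) (by simpa using hC) ha' hV he hne k hk
    exact last_not_nrm h hF hb (L := ⟨a', k⟩ :: L1) (by simpa using this)
  | append_singleton R sl ih =>
    intro a c L1 hC
    obtain ⟨a', ha', hV, e, he, hne⟩ := hs a hC.ha
    obtain ⟨k, hk⟩ := a'.exists_gen
    have := shift h hF hb (L := L1 ++ g :: s :: R) (sl := sl) (by simpa using hC) ha' hV he hne k hk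
    exact ih e sl.1 (⟨a', k⟩ :: L1) (by simpa using this)

/-- Without sinks there is no critical path with two middle groups or more. -/
theorem no_long (hs : NoSink F) (hm : 2 ≤ m) {L : List (Step p S)} (hC : Crit F m a L c) :
    False := by
  obtain ⟨g, R, sl, rfl⟩ : ∃ g R sl, L = g :: (R ++ [sl]) := by
    rcases L with _ | ⟨g, L'⟩
    · have := hC.len; simp at this; omega
    · rcases List.eq_nil_or_concat L' with rfl | ⟨R, sl, rfl⟩
      · have := hC.len; simp at this; omega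
      · exact ⟨g, R, sl, by simp⟩
  have hgF : g.1 ∈ F := hC.hL g (List.mem_cons_self ..)
  obtain ⟨a', ha', hV, e, he, hne⟩ := hs a hC.ha
  obtain ⟨k', hk'⟩ := a'.exists_gen
  obtain ⟨k2, hk2⟩ := g.1.exists_gen
  have hA0 := shift h hF hb (L := g :: R) hC ha' hV he hne k' hk'
  have hag : ¬ Nrm a' g.1 := pair_not_nrm h hF hb hs (g := ⟨a', k'⟩) (s := g) (R := R) e sl.1 []
    (by simpa using hA0)
  have hA1 := shift h hF hb (L := g :: R) hC ha' hV hgF hag k' hk'
  obtain ⟨R', sa, hR'⟩ : ∃ R' sa, g :: R = R' ++ [sa] := by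
    rcases List.eq_nil_or_concat (g :: R) with he' | ⟨R', sa, he'⟩
    · simp at he'
    · exact ⟨R', sa, by simpa using he'⟩
  rw [hR'] at hA1
  have hA : Crit F m g.1 ((⟨a', k'⟩ :: R') ++ [sa]) sl.1 := hA1
  have hB : Crit F m a (⟨g.1, k2⟩ :: ⟨a', k'⟩ :: R') sa.1 :=
    shift h hF hb hA hgF rfl hC.ha (first_not_nrm h hF hb hC) k2 hk2
  have hC' : Crit F m a (R' ++ [sa] ++ [sl]) c := by
    rw [← hR']; exact hC
  have hsaF : sa.1 ∈ F := hA.hL sa (by simp)
  have hslF : sl.1 ∈ F := hC.hL sl (by simp)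
  refine a'.comm_not_le h (hF.nc _ ha') ?_
  rw [hV]
  refine commutator_le.2 fun v hv t _ => ?_
  obtain ⟨w, hw, az, haz, hq⟩ := cover_start h hF hb hB t
  rw [comm_eq_left (a.Q_comm hq hv)]
  set r := ⁅v, az⁆ with hr
  have hrZ : r ∈ center S := a.quad h (hF.nc _ hC.ha) hv az
  obtain ⟨y2, hy2⟩ := link_exists hb hB.hL hB.len.le hC.ha hv
  obtain ⟨r1, hr1, r'', hr'', hrest⟩ := hy2.comm haz
  have hr2Z : ⁅y2, w⁆ ∈ center S := by
    rw [← commutatorElement_inv]
    exact inv_mem (sa.1.quad h (hF.nc _ hsaF) hw y2)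
  set r2 := ⁅y2, w⁆
  obtain ⟨r3, -, hr3⟩ := sa.1.exists_conj (sa.1.V_le_Q (sa.1.center_le_V hr2Z)) sa.2
  have hr3V : r3 ∈ sa.1.V := by
    rw [Sit.mem_V, hr3]
    exact (inferInstance : sa.1.Vg.Normal).conj_mem _ (sa.1.center_le_V hr2Z) sa.2
  have hr3Q : r3 ∈ sl.1.Q :=
    hb sa.1 hsaF sl.1 hslF [] (fun s hs => by simp at hs) (by simp; omega) r3 hr3V r3 rfl
  -- `r1` is fixed by `S`
  have hr1V : r1 ∈ g.1.V := by
    rw [Sit.mem_V, show g.1.emb r1 = k2 * g.1.emb r * k2⁻¹ from hr1]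
    exact (inferInstance : g.1.Vg.Normal).conj_mem _ (g.1.center_le_V hrZ) k2
  have hlA : Link ((⟨a', k'⟩ :: R') ++ [sa]) r1 r3 :=
    link_append.2 ⟨r2, ⟨r'', hr'', hrest⟩, link_single.2 hr3⟩
  have hr1Z : r1 ∈ center S := by
    refine mem_center_iff.2 fun s => ?_
    obtain ⟨w3, hw3, u, hu, hq3⟩ := cover_start h hF hb hA s
    have h1 : Commute u r1 := (hlA.commute_left hu (sl.1.Q_comm hr3Q hw3)).symm
    have h2 := h1.mul_left (g.1.Q_comm hq3 hr1V)
    rwa [mul_inv_cancel_left] at h2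
  have hr1c : r1 ∈ g.1.Zc := g.1.mem_Zc_of hk2 hr1Z hrZ (by
    rw [show g.1.emb r1 = k2 * g.1.emb r * k2⁻¹ from hr1]; group)
  have hrr1 : r = r1 := g.1.emb_injective (by
    have h1 := mem_center_iff.1 (show g.1.emb r1 ∈ center g.1.G from hr1c) k2⁻¹
    calc g.1.emb r = k2⁻¹ * (k2 * g.1.emb r * k2⁻¹) * k2 := by group
      _ = k2⁻¹ * g.1.emb r1 * k2 := by rw [show g.1.emb r1 = k2 * g.1.emb r * k2⁻¹ from hr1]
      _ = _ := by rw [h1]; group)
  -- `r''` is fixed by `S`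
  have hr''V : r'' ∈ a.V := by
    rw [← hV, Sit.mem_V, show a'.emb r'' = k' * a'.emb r1 * k'⁻¹ from hr'']
    exact (inferInstance : a'.Vg.Normal).conj_mem _ (a'.center_le_V hr1Z) k'
  obtain ⟨r4, -, hr4⟩ := sl.1.exists_conj hr3Q sl.2
  have hr4Q : r4 ∈ c.Q :=
    hb sa.1 hsaF c hC.hc [sl] (fun s hs => by rw [List.mem_singleton.1 hs]; exact hslF)
      (by simp; omega) r3 hr3V r4 (link_single.2 hr4)
  have hlC : Link (R' ++ [sa] ++ [sl]) r'' r4 :=
    link_append.2 ⟨r3, link_append.2 ⟨r2, hrest, link_single.2 hr3⟩, link_single.2 hr4⟩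
  have hr''Z : r'' ∈ center S := by
    refine mem_center_iff.2 fun s => ?_
    obtain ⟨w4, hw4, u, hu, hq4⟩ := cover_start h hF hb hC' s
    have h1 : Commute u r'' := (hlC.commute_left hu (c.Q_comm hr4Q hw4)).symm
    have h2 := h1.mul_left (a.Q_comm hq4 hr''V)
    rwa [mul_inv_cancel_left] at h2
  have hc'' : r'' ∈ a'.Zc := a'.mem_Zc_of hk' hr''Z hr1Z (by
    rw [show a'.emb r'' = k' * a'.emb r1 * k'⁻¹ from hr'']; group)
  show a'.emb r ∈ center a'.G
  have h1 := mem_center_iff.1 (show a'.emb r'' ∈ center a'.G from hc'') k'⁻¹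
  have e8 : a'.emb r = a'.emb r'' := by
    rw [hrr1]
    calc a'.emb r1 = k'⁻¹ * (k' * a'.emb r1 * k'⁻¹) * k' := by group
      _ = k'⁻¹ * a'.emb r'' * k' := by rw [show a'.emb r'' = k' * a'.emb r1 * k'⁻¹ from hr'']
      _ = _ := by rw [h1]; group
  rw [e8]
  exact hc''

end Cfsg.Agent.PushFamily
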