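import Cfsg.Agent.PushFamily.Good
import Cfsg.Agent.PushFamily.Shift

/-!
# Paths with one middle group
-/

set_option autoImplicit false
set_option linter.unusedSectionVars false

universe u

namespace Cfsg.Agent.PushFamily

open Subgroup
open Cfsg.Agent.Offender (cj mem_cj)
open scoped commutatorElement

variable {S : Type u} [Group S] [Finite S] {p : ℕ} [Fact p.Prime]

/-- A critical path with one middle group, in generating position. -/
structure One (F : Set (Sit p S)) (a i : Sit p S) (k : i.G) (c : Sit p S) : Prop where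
  crit : Crit F 1 a [⟨i, k⟩] c
  gen : (i.P : Subgroup i.G) ⊔ cj k (i.P : Subgroup i.G) = ⊤

variable {F : Set (Sit p S)} (h : Hyp p S) (hF : Fam F) (hb : Short F 1)

theorem One.hi {a i : Sit p S} {k : i.G} {c : Sit p S} (o : One F a i k c) : i ∈ F :=
  o.crit.hL ⟨i, k⟩ (List.mem_singleton.2 rfl)

include hb in
/-- Every `V` lies in every `Q`. -/
theorem V_le_Q_of {x y : Sit p S} (hx : x ∈ F) (hy : y ∈ F) : x.V ≤ y.Q := fun v hv =>
  hb x hx y hy [] (fun s hs => by simp at hs) (by simp) v hv v rfl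

section

variable {a i : Sit p S} {k : i.G} {c : Sit p S} (o : One F a i k c)

include h hF hb o

theorem One.rev : One F c i k⁻¹ a := by
  refine ⟨crit_rev h hF hb o.crit, ?_⟩
  have h1 := congrArg (Subgroup.map (MulAut.conj k⁻¹).toMonoidHom) o.gen
  rw [Subgroup.map_sup, Subgroup.map_top_of_surjective (MulAut.conj k⁻¹).toMonoidHom
    (MulAut.conj k⁻¹).surjective] at h1
  have e : (cj k (i.P : Subgroup i.G)).map (MulAut.conj k⁻¹).toMonoidHom = i.P := by
    show cj k⁻¹ (cj k (i.P : Subgroup i.G)) = _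
    rw [Offender.cj_cj, inv_mul_cancel, Offender.cj_one]
  rw [e, sup_comm] at h1
  exact h1

/-- The moved `V_a`. -/
theorem One.mem_img' {y : S} (hy : y ∈ img a.V [⟨i, k⟩]) :
    ∃ v ∈ a.V, i.emb y = k * i.emb v * k⁻¹ := by
  obtain ⟨v, hv, hy⟩ := mem_img.1 hy
  exact ⟨v, hv, link_single.1 hy⟩

theorem One.img_le : img a.V [⟨i, k⟩] ≤ i.Q := fun y hy => by
  obtain ⟨v, hv, e⟩ := o.mem_img' h hF hb hy
  obtain ⟨y', hy', e'⟩ := i.exists_conj (V_le_Q_of hb o.crit.ha o.hi hv) k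
  rwa [i.emb_injective (e.trans e'.symm)]

theorem One.img_pow {y : S} (hy : y ∈ img a.V [⟨i, k⟩]) : y ^ p = 1 := by
  obtain ⟨v, hv, e⟩ := o.mem_img' h hF hb hy
  refine i.emb_injective ?_
  rw [map_pow, map_one, e, conj_pow, ← map_pow, a.V_pow h hv, map_one, mul_one, mul_inv_cancel]

theorem One.img_comm {y y' : S} (hy : y ∈ img a.V [⟨i, k⟩]) (hy' : y' ∈ img a.V [⟨i, k⟩]) :
    Commute y y' := by
  obtain ⟨v, hv, hy⟩ := mem_img.1 hy
  obtain ⟨v', hv', hy'⟩ := mem_img.1 hy'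
  exact hy.commute hy' (a.V_comm hv hv')

theorem One.central {y w : S} (hy : y ∈ img a.V [⟨i, k⟩]) (hw : w ∈ c.V) :
    ⁅y, w⁆ ∈ i.Zc := by
  obtain ⟨v, hv, e⟩ := o.mem_img' h hF hb hy
  obtain ⟨w', -, e'⟩ := i.exists_conj (V_le_Q_of hb o.crit.hc o.hi hw) k⁻¹
  refine i.mem_Zc_of o.gen ?_ (a.quad h (hF.nc _ o.crit.ha) hv w') ?_
  · rw [← commutatorElement_inv]
    exact inv_mem (c.quad h (hF.nc _ o.crit.hc) hw y)
  · rw [map_commutatorElement, map_commutatorElement, e, e']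
    simp only [commutatorElement_def]
    group

theorem One.central' {w : S} (hw : w ∈ c.V) (s : S) : ⁅w, s⁆ ∈ i.Zc := by
  obtain ⟨y, hy, hq⟩ := cover h hF hb o.crit s
  rw [comm_eq_left (c.Q_comm hq hw), ← commutatorElement_inv]
  exact inv_mem (o.central h hF hb hy hw)

/-- The moved `V_a` is central in `Q_i` modulo the centre of the group. -/
theorem One.zq {y q : S} (hy : y ∈ img a.V [⟨i, k⟩]) (hq : q ∈ i.Q) : ⁅y, q⁆ ∈ i.Zc := by
  obtain ⟨v, hv, e⟩ := o.mem_img' h hF hb hy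
  obtain ⟨q', -, e'⟩ := i.exists_conj hq k⁻¹
  have h1 : i.emb ⁅v, q'⁆ ∈ center i.G := (o.rev h hF hb).central' h hF hb hv q'
  have e2 : k * i.emb ⁅v, q'⁆ * k⁻¹ = i.emb ⁅y, q⁆ := by
    rw [map_commutatorElement, map_commutatorElement, e, e']
    simp only [commutatorElement_def]
    group
  rw [mem_center_iff.1 h1 k, mul_inv_cancel_right] at e2
  show i.emb ⁅y, q⁆ ∈ center i.G
  rw [← e2]
  exact h1

theorem One.split {q : S} (hq : q ∈ i.Q) :
    ∃ y ∈ img a.V [⟨i, k⟩], ∃ q₁ ∈ i.Q ⊓ c.Q, y * q₁ = q := by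
  obtain ⟨y, hy, hq'⟩ := cover h hF hb o.crit q
  exact ⟨y, hy, y⁻¹ * q, ⟨i.Q.mul_mem (i.Q.inv_mem (o.img_le h hF hb hy)) hq, hq'⟩, mul_inv_cancel_left y q⟩

theorem One.derived : ⁅i.Q, i.Q⁆ ≤ ⁅i.Q ⊓ c.Q, i.Q ⊓ c.Q⁆ ⊔ i.Zc := by
  set T := ⁅i.Q ⊓ c.Q, i.Q ⊓ c.Q⁆ ⊔ i.Zc with hT
  haveI : i.Zc.Normal := (inferInstance : (center i.G).Normal).comap i.emb
  haveI : T.Normal := by rw [hT]; infer_instance
  -- the moved `V_a` is central in `Q_i` modulo `T`
  have hy : ∀ y ∈ img a.V [⟨i, k⟩], ∀ q ∈ i.Q,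
      Commute (QuotientGroup.mk' T y) (QuotientGroup.mk' T q) := fun y hy q hq => by
    refine commutatorElement_eq_one_iff_mul_comm.1 ?_
    rw [← map_commutatorElement]
    exact (QuotientGroup.eq_one_iff _).2 (mem_sup_right (o.zq h hF hb hy hq))
  refine commutator_le.2 fun x hx x' hx' => ?_
  obtain ⟨y, hy1, q, hq, rfl⟩ := o.split h hF hb hx
  obtain ⟨y', hy2, q', hq', rfl⟩ := o.split h hF hb hx'
  have h1 : Commute (QuotientGroup.mk' T q) (QuotientGroup.mk' T q') := by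
    refine commutatorElement_eq_one_iff_mul_comm.1 ?_
    rw [← map_commutatorElement]
    exact (QuotientGroup.eq_one_iff _).2 (mem_sup_left (commutator_mem_commutator hq hq'))
  have h2 : Commute (QuotientGroup.mk' T (y * q)) (QuotientGroup.mk' T (y' * q')) := by
    rw [map_mul, map_mul]
    exact ((hy y hy1 y' (o.img_le h hF hb hy2)).mul_right (hy y hy1 q' hq'.1)).mul_left
      ((hy y' hy2 q hq.1).symm.mul_right h1)
  refine (QuotientGroup.eq_one_iff _).1 ?_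
  show QuotientGroup.mk' T ⁅y * q, y' * q'⁆ = 1
  rw [map_commutatorElement, commutatorElement_eq_one_iff_mul_comm]
  exact h2.eq

theorem One.z_derived {y d : S} (hy : y ∈ img a.V [⟨i, k⟩]) (hd : d ∈ ⁅i.Q, i.Q⁆) :
    Commute y d := by
  set Y := img a.V [⟨i, k⟩] with hY
  set Q₁ := i.Q ⊓ c.Q with hQ₁
  have hzc : ⁅Q₁, Y⁆ ≤ center S := commutator_le.2 fun q hq z hz => by
    rw [← commutatorElement_inv]
    exact inv_mem (i.Zc_le (o.zq h hF hb hz hq.1))
  have hbot : ⁅⁅Q₁, Q₁⁆, Y⁆ = ⊥ := by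
    refine commutator_commutator_eq_bot_of_rotate ?_ ?_
    · exact commutator_eq_bot_iff_le_centralizer.2 (hzc.trans (center_le_centralizer _))
    · rw [commutator_comm Y Q₁]
      exact commutator_eq_bot_iff_le_centralizer.2 (hzc.trans (center_le_centralizer _))
  have hle : ⁅Q₁, Q₁⁆ ⊔ i.Zc ≤ centralizer (Y : Set S) :=
    sup_le (commutator_eq_bot_iff_le_centralizer.1 hbot) (i.Zc_le.trans (center_le_centralizer _))
  exact mem_centralizer_iff.1 (hle (o.derived h hF hb hd)) y hy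

theorem One.derived_le : ⁅i.Q, i.Q⁆ ≤ ⁅c.Q, c.Q⁆ ⊔ center S :=
  (o.derived h hF hb).trans (sup_le_sup (commutator_mono inf_le_right inf_le_right) i.Zc_le)

end

/-! ### Two mutual paths -/

section

variable {a i : Sit p S} {k : i.G} {b c : Sit p S} {l : c.G} (o : One F a i k c) (o' : One F b c l i)

include h hF hb o o'

theorem derived_le_R : ⁅i.Q, i.Q⁆ ≤ i.R := by
  have hY : img b.V [⟨c, l⟩] ≤ centralizer ((⁅i.Q, i.Q⁆ : Subgroup S) : Set S) := by
    intro y hy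
    refine mem_centralizer_iff.2 fun d hd => ?_
    obtain ⟨d', hd', z, hz, rfl⟩ := Subgroup.mem_sup_of_normal_right.1 (o.derived_le h hF hb hd)
    exact ((o'.z_derived h hF hb hy hd').mul_right (mem_center_iff.1 hz y)).eq.symm
  haveI hn : (centralizer ((⁅Cfsg.pCore p i.G, Cfsg.pCore p i.G⁆ : Subgroup i.G) : Set i.G)).Normal := inferInstance
  have hN : ¬ centralizer ((⁅Cfsg.pCore p i.G, Cfsg.pCore p i.G⁆ : Subgroup i.G) : Set i.G) ≤ i.M := by
    intro hle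
    refine not_img_le h hF hb o'.crit fun y hy => i.st.toSetup₀.normal_inf_le hle
      ⟨i.emb_mem y, mem_centralizer_iff.2 fun g hg => ?_⟩
    rw [← i.map_Q, ← map_commutator] at hg
    obtain ⟨d, hd, rfl⟩ := hg
    rw [← map_mul, ← map_mul, mem_centralizer_iff.1 (hY hy) d hd]
  refine fun d hd => i.mem_R.2 ⟨fun g hg => ?_, commutator_le_self _ hd⟩
  refine (mem_centralizer_iff.1 (residual_le i.st hN hg) _ ?_).symm
  rw [← i.map_Q, ← map_commutator]
  exact ⟨d, hd, rfl⟩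

/-- `[Q_i ∩ Q_c, S]` lies in `R_i Z(S)`. -/
theorem Q1_comm {q : S} (hq : q ∈ i.Q ⊓ c.Q) (s : S) : ⁅q, s⁆ ∈ i.R ⊔ center S := by
  obtain ⟨y, hy, hq'⟩ := cover h hF hb o'.crit s
  haveI : (i.R ⊔ center S).Normal := inferInstance
  have e : ⁅q, s⁆ = ⁅q, y⁆ * (y * ⁅q, y⁻¹ * s⁆ * y⁻¹) := by
    simp only [commutatorElement_def]; group
  rw [e]
  have hD := derived_le_R h hF hb o o'
  refine mul_mem ?_ ((inferInstance : (i.R ⊔ center S).Normal).conj_mem _
    (mem_sup_left (hD (commutator_mem_commutator hq.1 hq'))) y)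
  exact (sup_le ((o'.derived_le h hF hb).trans (sup_le_sup_right hD _)) le_sup_right :
      ⁅c.Q, c.Q⁆ ⊔ center S ≤ i.R ⊔ center S)
    (mem_sup_left (commutator_mem_commutator hq.2 (o'.img_le h hF hb hy)))

theorem mem_Q1_of {q y : S} (hq : q ∈ i.Q) (hy : y ∈ img b.V [⟨c, l⟩]) :
    ⁅q, y⁆ ∈ i.Q ⊓ c.Q := by
  refine ⟨?_, ?_⟩ <;> rw [commutatorElement_def]
  · rw [mul_assoc, mul_assoc, ← mul_assoc y]
    exact i.Q.mul_mem hq ((inferInstance : i.Q.Normal).conj_mem _ (i.Q.inv_mem hq) y)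
  · exact c.Q.mul_mem ((inferInstance : c.Q.Normal).conj_mem _ (o'.img_le h hF hb hy) q)
      (c.Q.inv_mem (o'.img_le h hF hb hy))

theorem sup_center_cen : i.R ⊔ center S ≤ cen i.R :=
  sup_le (le_cen _) fun z hz => mem_cen.2 fun u => by
    rw [commutatorElement_eq_one_iff_mul_comm.2 (mem_center_iff.1 hz u).symm]
    exact one_mem _

/-- `q ^ p ∈ R_i` for `q ∈ Q_i`. -/
theorem pow_mem_R {q : S} (hq : q ∈ i.Q) : q ^ p ∈ i.R := by
  have hD := derived_le_R h hF hb o o'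
  set π := QuotientGroup.mk' i.R with hπ
  have hQc : ∀ a ∈ i.Q, ∀ b ∈ i.Q, Commute (π a) (π b) := fun a ha b hb' => by
    refine commutatorElement_eq_one_iff_mul_comm.1 ?_
    rw [← map_commutatorElement]
    exact (QuotientGroup.eq_one_iff _).2 (hD (commutator_mem_commutator ha hb'))
  let P₁ : Subgroup S :=
    { carrier := {x | x ∈ i.Q ∧ x ^ p ∈ i.R}
      one_mem' := ⟨one_mem _, by rw [one_pow]; exact one_mem _⟩
      mul_mem' := fun {x y} hx hy => ⟨mul_mem hx.1 hy.1, (QuotientGroup.eq_one_iff _).1 (by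
        show π ((x * y) ^ p) = 1
        rw [map_pow, map_mul, (hQc x hx.1 y hy.1).mul_pow, ← map_pow, ← map_pow]
        rw [show π (x ^ p) = 1 from (QuotientGroup.eq_one_iff _).2 hx.2,
          show π (y ^ p) = 1 from (QuotientGroup.eq_one_iff _).2 hy.2, one_mul])⟩
      inv_mem' := fun {x} hx => ⟨inv_mem hx.1, by rw [inv_pow]; exact inv_mem hx.2⟩ }
  have hmap : P₁.map i.emb ≤ Cfsg.pCore p i.G := fun g ⟨x, hx, e⟩ => e ▸ hx.1
  haveI hP₁n : (P₁.map i.emb).Normal := by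
    refine ⟨fun g hg m => ?_⟩
    obtain ⟨x, hx, rfl⟩ := hg
    obtain ⟨x', hx', e⟩ := i.exists_conj hx.1 m
    refine ⟨x', ⟨hx', ?_⟩, e⟩
    have h1 : (i.R.map i.emb).Normal := by rw [i.map_R]; infer_instance
    obtain ⟨r, hr, er⟩ := h1.conj_mem _ ⟨x ^ p, hx.2, rfl⟩ m
    rwa [i.emb_injective (show i.emb (x' ^ p) = i.emb r by rw [er, map_pow, map_pow, e, conj_pow])]
  have hP₁S : P₁.Normal := by
    refine ⟨fun x hx s => ⟨(inferInstance : i.Q.Normal).conj_mem x hx.1 s, ?_⟩⟩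
    rw [conj_pow]
    exact (inferInstance : i.R.Normal).conj_mem _ hx.2 s
  have hRP : i.R ≤ P₁ := fun r hr => ⟨i.R_le_Q hr, pow_mem hr p⟩
  have hRZ : i.R ⊔ center S ≤ P₁ := sup_le hRP fun z hz =>
    ⟨i.V_le_Q (i.center_le_V hz), by
      rw [i.V_pow h (i.center_le_V hz)]; exact one_mem _⟩
  -- `S` is trivial on `Q_i / P₁`
  have hS : ∀ x ∈ i.Q, ∀ s, ⁅x, s⁆ ∈ P₁ := by
    intro x hx s
    obtain ⟨y, hy, q₁, hq₁, rfl⟩ := o.split h hF hb hx
    have e : ⁅y * q₁, s⁆ = y * ⁅q₁, s⁆ * y⁻¹ * ⁅y, s⁆ := by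
      simp only [commutatorElement_def]; group
    rw [e]
    have hyP : y ∈ P₁ := ⟨o.img_le h hF hb hy, by rw [o.img_pow h hF hb hy]; exact one_mem _⟩
    refine mul_mem (hP₁S.conj_mem _ (hRZ (Q1_comm h hF hb o o' hq₁ s)) y) ?_
    rw [commutatorElement_def, mul_assoc, mul_assoc, ← mul_assoc s]
    exact mul_mem hyP (hP₁S.conj_mem _ (inv_mem hyP) s)
  have hres : ⁅Cfsg.pResidual p i.G, Cfsg.pCore p i.G⁆ ≤ P₁.map i.emb := by
    refine PushUp.res_of_chief hmap (i.P.2.to_le i.QP) fun U W hPW hUQ hch => ?_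
    haveI := hch.2.1
    refine chief_trivial i.st hch fun g hg u hu => ?_
    obtain ⟨s, rfl⟩ := i.exists_emb hg
    obtain ⟨x, rfl⟩ := i.exists_emb (i.QP (hUQ hu))
    refine hPW ⟨⁅s, x⁆, ?_, map_commutatorElement _ _ _⟩
    rw [← commutatorElement_inv]
    exact inv_mem (hS x (hUQ hu) s)
  refine i.mem_R_of (pow_mem hq p) fun g hg => ?_
  obtain ⟨u, hu, eu⟩ := hres (commutator_mem_commutator hg (show i.emb q ∈ Cfsg.pCore p i.G from hq))
  refine ⟨(u * q) ^ p * (q ^ p)⁻¹, ?_, ?_⟩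
  · refine (QuotientGroup.eq_one_iff _).1 ?_
    show π _ = 1
    rw [map_mul, map_pow, map_mul, (hQc u hu.1 q hq).mul_pow, map_inv, ← map_pow π q,
      mul_inv_cancel_right, ← map_pow]
    exact (QuotientGroup.eq_one_iff _).2 hu.2
  · rw [map_mul, map_inv, map_pow, map_pow, map_mul, eu]
    simp only [commutatorElement_def, inv_mul_cancel_right]
    rw [conj_pow]

end

end Cfsg.Agent.PushFamily
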