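import Cfsg.Agent.PushFamily.Sit

/-!
# Paths through a family of situations, and critical paths
-/

set_option autoImplicit false
set_option linter.unusedSectionVars false

universe u

namespace Cfsg.Agent.PushFamily

open Subgroup
open scoped commutatorElement

variable {S : Type u} [Group S] [Finite S] {p : ℕ} [Fact p.Prime]

/-- A step: a group and one of its elements. -/
abbrev Step (p : ℕ) (S : Type u) [Group S] : Type (u + 1) := Σ i : Sit p S, i.G

/-- The partial map of a step. -/
def Rel (s : Step p S) (x y : S) : Prop := s.1.emb y = s.2 * s.1.emb x * s.2⁻¹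

/-- The composed partial map. -/
def Link : List (Step p S) → S → S → Prop
  | [], x, y => x = y
  | s :: L, x, y => ∃ m, Rel s x m ∧ Link L m y

/-- The opposite step. -/
def rstep (s : Step p S) : Step p S := ⟨s.1, s.2⁻¹⟩

/-- The opposite path. -/
def rpath (L : List (Step p S)) : List (Step p S) := (L.map rstep).reverse

@[simp] theorem link_nil {x y : S} : Link ([] : List (Step p S)) x y ↔ x = y := Iff.rfl

theorem link_cons {s : Step p S} {L : List (Step p S)} {x y : S} :
    Link (s :: L) x y ↔ ∃ m, Rel s x m ∧ Link L m y := Iff.rfl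

theorem link_single {s : Step p S} {x y : S} : Link [s] x y ↔ Rel s x y := by
  simp [link_cons]

theorem link_append {L L' : List (Step p S)} {x y : S} :
    Link (L ++ L') x y ↔ ∃ m, Link L x m ∧ Link L' m y := by
  induction L generalizing x with
  | nil => simp
  | cons s L ih =>
    simp only [List.cons_append, link_cons, ih]
    constructor
    · rintro ⟨m, hm, m', h1, h2⟩
      exact ⟨m', ⟨m, hm, h1⟩, h2⟩
    · rintro ⟨m', ⟨m, hm, h1⟩, h2⟩
      exact ⟨m, hm, m', h1, h2⟩

theorem Rel.rev {s : Step p S} {x y : S} (h : Rel s x y) : Rel (rstep s) y x := by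
  unfold Rel at h ⊢
  show s.1.emb x = s.2⁻¹ * s.1.emb y * s.2⁻¹⁻¹
  rw [h]; group

theorem rstep_rstep (s : Step p S) : rstep (rstep s) = s := by
  obtain ⟨i, k⟩ := s
  exact Sigma.ext rfl (heq_of_eq (inv_inv k))

theorem rpath_rpath (L : List (Step p S)) : rpath (rpath L) = L := by
  have : (rstep ∘ rstep : Step p S → Step p S) = id := funext fun s => rstep_rstep s
  simp [rpath, List.map_reverse, List.map_map, this]

theorem rpath_length (L : List (Step p S)) : (rpath L).length = L.length := by simp [rpath]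

theorem rpath_cons (s : Step p S) (L : List (Step p S)) : rpath (s :: L) = rpath L ++ [rstep s] := by
  simp [rpath]

theorem rpath_append (L L' : List (Step p S)) : rpath (L ++ L') = rpath L' ++ rpath L := by
  simp [rpath]

theorem Link.rev {L : List (Step p S)} {x y : S} (h : Link L x y) : Link (rpath L) y x := by
  induction L generalizing x with
  | nil => exact (link_nil.1 h).symm
  | cons s L ih =>
    obtain ⟨m, h1, h2⟩ := h
    rw [rpath_cons, link_append]
    exact ⟨m, ih h2, link_single.2 h1.rev⟩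

theorem Link.of_rev {L : List (Step p S)} {x y : S} (h : Link (rpath L) y x) : Link L x y := by
  have := h.rev
  rwa [rpath_rpath] at this

theorem Rel.unique {s : Step p S} {x y y' : S} (h : Rel s x y) (h' : Rel s x y') : y = y' :=
  s.1.emb_injective (h.trans h'.symm)

theorem Link.right_unique {L : List (Step p S)} {x y y' : S} (h : Link L x y) (h' : Link L x y') :
    y = y' := by
  induction L generalizing x with
  | nil => exact (link_nil.1 h).symm.trans (link_nil.1 h')
  | cons s L ih =>
    obtain ⟨m, h1, h2⟩ := h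
    obtain ⟨m', h1', h2'⟩ := h'
    obtain rfl := h1.unique h1'
    exact ih h2 h2'

theorem Link.left_unique {L : List (Step p S)} {x x' y : S} (h : Link L x y) (h' : Link L x' y) :
    x = x' :=
  h.rev.right_unique h'.rev

theorem link_one (L : List (Step p S)) : Link L 1 1 := by
  induction L with
  | nil => rfl
  | cons s L ih => exact ⟨1, by simp [Rel], ih⟩

theorem Rel.mul {s : Step p S} {x y x' y' : S} (h : Rel s x y) (h' : Rel s x' y') :
    Rel s (x * x') (y * y') := by
  unfold Rel at h h' ⊢
  rw [map_mul, map_mul, h, h']; group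

theorem Link.mul {L : List (Step p S)} {x y x' y' : S} (h : Link L x y) (h' : Link L x' y') :
    Link L (x * x') (y * y') := by
  induction L generalizing x x' with
  | nil => rw [link_nil] at *; rw [h, h']
  | cons s L ih =>
    obtain ⟨m, h1, h2⟩ := h
    obtain ⟨m', h1', h2'⟩ := h'
    exact ⟨_, h1.mul h1', ih h2 h2'⟩

theorem Link.inv {L : List (Step p S)} {x y : S} (h : Link L x y) : Link L x⁻¹ y⁻¹ := by
  induction L generalizing x with
  | nil => rw [link_nil] at *; rw [h]
  | cons s L ih =>
    obtain ⟨m, h1, h2⟩ := h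
    refine ⟨m⁻¹, ?_, ih h2⟩
    unfold Rel at h1 ⊢
    rw [map_inv, map_inv, h1]; group

theorem Link.comm {L : List (Step p S)} {x y x' y' : S} (h : Link L x y) (h' : Link L x' y') :
    Link L ⁅x, x'⁆ ⁅y, y'⁆ :=
  ((h.mul h').mul h.inv).mul h'.inv

theorem Link.commute {L : List (Step p S)} {x y x' y' : S} (h : Link L x y) (h' : Link L x' y')
    (hc : Commute x x') : Commute y y' := by
  have h2 := h.comm h'
  rw [commutatorElement_eq_one_iff_mul_comm.2 hc.eq] at h2
  exact commutatorElement_eq_one_iff_mul_comm.1 (h2.right_unique (link_one L))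

theorem Link.commute_left {L : List (Step p S)} {x y x' y' : S} (h : Link L x y)
    (h' : Link L x' y') (hc : Commute y y') : Commute x x' :=
  h.rev.commute h'.rev hc

/-- Twisting a step. -/
def tstep (β : MulAut S) (s : Step p S) : Step p S := ⟨s.1.twist β, s.2⟩

theorem rel_tstep {β : MulAut S} {s : Step p S} {x y : S} :
    Rel (tstep β s) x y ↔ Rel s (β x) (β y) := Iff.rfl

theorem link_tstep {β : MulAut S} {L : List (Step p S)} {x y : S} :
    Link (L.map (tstep β)) x y ↔ Link L (β x) (β y) := by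
  induction L generalizing x with
  | nil => simp
  | cons s L ih =>
    simp only [List.map_cons, link_cons, ih]
    constructor
    · rintro ⟨m, h1, h2⟩
      exact ⟨β m, h1, h2⟩
    · rintro ⟨m, h1, h2⟩
      exact ⟨β.symm m, rel_tstep.2 (by rwa [MulEquiv.apply_symm_apply]),
        by rwa [MulEquiv.apply_symm_apply]⟩

theorem twist_V (i : Sit p S) (β : MulAut S) : (i.twist β).V = i.V.comap β.toMonoidHom := by
  have hZ : (center S).map (i.emb.comp β.toMonoidHom) = (center S).map i.emb := by
    have hc : (center S).map β.toMonoidHom = center S :=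
      characteristic_iff_map_eq.1 inferInstance β
    conv_rhs => rw [← hc, Subgroup.map_map]
  show (normalClosure (((center S).map (i.emb.comp β.toMonoidHom) : Subgroup i.G) : Set i.G)).comap
    (i.emb.comp β.toMonoidHom) = _
  rw [hZ]
  rfl

theorem twist_Q (i : Sit p S) (β : MulAut S) : (i.twist β).Q = i.Q.comap β.toMonoidHom := rfl

theorem twist_Zc (i : Sit p S) (β : MulAut S) : (i.twist β).Zc = i.Zc.comap β.toMonoidHom := rfl

/-- A family: closed under twisting, `Z(S)` never central. -/
structure Fam (F : Set (Sit p S)) : Prop where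
  nc : ∀ i ∈ F, i.Nc
  twist : ∀ i ∈ F, ∀ β : MulAut S, i.twist β ∈ F

/-- All steps in the family. -/
def Inside (F : Set (Sit p S)) (L : List (Step p S)) : Prop := ∀ s ∈ L, s.1 ∈ F

theorem Inside.rev {F : Set (Sit p S)} {L : List (Step p S)} (h : Inside F L) :
    Inside F (rpath L) := by
  intro s hs
  simp only [rpath, List.mem_reverse, List.mem_map] at hs
  obtain ⟨t, ht, rfl⟩ := hs
  exact h t ht

/-- All images along paths shorter than `m` stay in every `Q`. -/
def Short (F : Set (Sit p S)) (m : ℕ) : Prop :=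
  ∀ a ∈ F, ∀ c ∈ F, ∀ L, Inside F L → L.length < m → ∀ v ∈ a.V, ∀ y, Link L v y → y ∈ c.Q

/-- A path moving `V_a` outside `Q_c`. -/
structure Crit (F : Set (Sit p S)) (m : ℕ) (a : Sit p S) (L : List (Step p S)) (c : Sit p S) :
    Prop where
  ha : a ∈ F
  hc : c ∈ F
  hL : Inside F L
  len : L.length = m
  out : ∃ v ∈ a.V, ∃ y, Link L v y ∧ y ∉ c.Q

/-- The image of a subgroup along a path. -/
def img (V : Subgroup S) (L : List (Step p S)) : Subgroup S where
  carrier := {y | ∃ v ∈ V, Link L v y}
  one_mem' := ⟨1, one_mem _, link_one L⟩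
  mul_mem' := by
    rintro a b ⟨v, hv, h⟩ ⟨w, hw, h'⟩
    exact ⟨v * w, mul_mem hv hw, h.mul h'⟩
  inv_mem' := by
    rintro a ⟨v, hv, h⟩
    exact ⟨v⁻¹, inv_mem hv, h.inv⟩

theorem mem_img {V : Subgroup S} {L : List (Step p S)} {y : S} :
    y ∈ img V L ↔ ∃ v ∈ V, Link L v y := Iff.rfl

variable {F : Set (Sit p S)} {m : ℕ} (h : Hyp p S) (hF : Fam F) (hb : Short F m)

include hb in
theorem link_exists {L : List (Step p S)} (hL : Inside F L) (hlen : L.length ≤ m) {a : Sit p S}
    (ha : a ∈ F) {v : S} (hv : v ∈ a.V) : ∃ y, Link L v y := by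
  induction L using List.reverseRecOn with
  | nil => exact ⟨v, rfl⟩
  | append_singleton L s ih =>
    simp only [List.length_append, List.length_singleton] at hlen
    have hL' : Inside F L := fun t ht => hL t (List.mem_append_left _ ht)
    obtain ⟨y, hy⟩ := ih hL' (by omega)
    obtain ⟨y', -, hy'⟩ := s.1.exists_conj
      (hb a ha s.1 (hL s (by simp)) L hL' (by omega) v hv y hy) s.2
    exact ⟨y', link_append.2 ⟨y, hy, link_single.2 hy'⟩⟩

include hb in
theorem card_img {L : List (Step p S)} (hL : Inside F L) (hlen : L.length ≤ m) {a : Sit p S}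
    (ha : a ∈ F) : Nat.card (img a.V L) = Nat.card a.V := by
  choose f hf using fun v : ↥a.V => link_exists hb hL hlen ha v.2
  refine (Nat.card_congr (Equiv.ofBijective
    (fun v : ↥a.V => (⟨f v, v, v.2, hf v⟩ : img a.V L)) ⟨fun v w e => ?_, fun y => ?_⟩)).symm
  · have e' : f v = f w := congrArg Subtype.val e
    exact Subtype.ext ((hf v).left_unique (e' ▸ hf w))
  · obtain ⟨v, hv, hy⟩ := mem_img.1 y.2
    exact ⟨⟨v, hv⟩, Subtype.ext ((hf ⟨v, hv⟩).right_unique hy)⟩

include h hF hb

variable {a c : Sit p S} {L : List (Step p S)}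

theorem crit_rev (hC : Crit F m a L c) : Crit F m c (rpath L) a := by
  obtain ⟨v, hv, y, hy, hQ⟩ := hC.out
  obtain ⟨w, hw, hne⟩ : ∃ w ∈ c.V, ¬ Commute y w := by
    by_contra hcon
    push Not at hcon
    exact hQ (c.mem_Q_of_comm h (hF.nc _ hC.hc) hcon)
  obtain ⟨x, hx⟩ := link_exists hb (Inside.rev hC.hL) (by rw [rpath_length]; exact hC.len.le) hC.hc hw
  exact ⟨hC.hc, hC.ha, Inside.rev hC.hL, (rpath_length L).trans hC.len, w, hw, x, hx,
    fun hxQ => hne (hy.commute hx.of_rev (a.Q_comm hxQ hv).symm)⟩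

theorem fix_le_rev (hC : Crit F m a L c) :
    Nat.card (a.V ⊓ centralizer (img c.V (rpath L) : Set S) : Subgroup S) ≤
        Nat.card (img a.V L ⊓ c.Q : Subgroup S) ∧
      Nat.card (img a.V L ⊓ c.Q : Subgroup S) ≤
        Nat.card (a.V ⊓ centralizer (img c.V (rpath L) : Set S) : Subgroup S) := by
  constructor
  · choose f hf using fun v : (a.V ⊓ centralizer (img c.V (rpath L) : Set S) : Subgroup S) =>
      link_exists hb hC.hL hC.len.le hC.ha v.2.1
    refine Nat.card_le_card_of_injective
      (fun v => (⟨f v, ⟨v, v.2.1, hf v⟩, c.mem_Q_of_comm h (hF.nc _ hC.hc) fun w hw => ?_⟩ :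
        (img a.V L ⊓ c.Q : Subgroup S))) (fun v w e => ?_)
    · obtain ⟨x, hx⟩ := link_exists hb (Inside.rev hC.hL) (by rw [rpath_length]; exact hC.len.le)
        hC.hc hw
      exact (hf v).commute hx.of_rev (mem_centralizer_iff.1 v.2.2 x ⟨w, hw, hx⟩).symm
    · exact Subtype.ext ((hf v).left_unique (by
        rw [show f v = f w from congrArg (fun z => ((z : (img a.V L ⊓ c.Q : Subgroup S)) : S)) e]
        exact hf w))
  · choose f hf1 hf using fun y : (img a.V L ⊓ c.Q : Subgroup S) => mem_img.1 y.2.1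
    refine Nat.card_le_card_of_injective
      (fun y => (⟨f y, hf1 y, mem_centralizer_iff.2 fun x hx => ?_⟩ :
        (a.V ⊓ centralizer (img c.V (rpath L) : Set S) : Subgroup S))) (fun y z e => ?_)
    · obtain ⟨w, hw, hx'⟩ := mem_img.1 hx
      exact ((hf y).commute_left hx'.of_rev (c.Q_comm y.2.2 hw)).eq.symm
    · exact Subtype.ext ((hf y).right_unique (by
        rw [show f y = f z from congrArg
          (fun t => ((t : (a.V ⊓ centralizer (img c.V (rpath L) : Set S) : Subgroup S)) : S)) e]
        exact hf z))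

theorem not_img_le (hC : Crit F m a L c) : ¬ img a.V L ≤ c.Q := fun hle =>
  let ⟨v, hv, y, hy, hQ⟩ := hC.out
  hQ (hle ⟨v, hv, hy⟩)

/-- The image of `V_a` is an offender on `V_c`; the two ends have equal `V`-orders. -/
theorem crit_offender (hC : Crit F m a L c) :
    (∀ s, ∃ y ∈ img a.V L, y⁻¹ * s ∈ c.Q) ∧ Nat.card a.V = Nat.card c.V := by
  have hc' := hF.nc _ hC.hc
  have ha' := hF.nc _ hC.ha
  have hR := crit_rev h hF hb hC
  obtain ⟨h1, h2⟩ := fix_le_rev h hF hb hC
  obtain ⟨h3, h4⟩ := fix_le_rev h hF hb hR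
  rw [rpath_rpath] at h3 h4
  have eY := card_img hb hC.hL hC.len.le hC.ha
  have eX := card_img hb hR.hL hR.len.le hC.hc
  -- one of the two images is an offender
  rcases le_total (Nat.card c.V * Nat.card (img a.V L ⊓ c.Q : Subgroup S))
    (Nat.card (img a.V L) * Nat.card (c.V ⊓ centralizer (img a.V L : Set S) : Subgroup S)) with hd | hd
  · obtain ⟨hcov, hfix, hcard⟩ := c.offender h hc' (not_img_le h hF hb hC) hd
    rw [eY] at hcard
    rw [hfix] at h3
    have hb' : Nat.card a.V * Nat.card (img c.V (rpath L) ⊓ a.Q : Subgroup S) ≤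
        Nat.card (img c.V (rpath L)) *
          Nat.card (a.V ⊓ centralizer (img c.V (rpath L) : Set S) : Subgroup S) := by
      rw [eX]
      calc _ ≤ Nat.card a.V * Nat.card (center S) := Nat.mul_le_mul_left _ (h4.trans
            (le_of_eq (by rw [hfix])))
        _ = _ := hcard.symm
        _ ≤ _ := Nat.mul_le_mul_left _ h2
    obtain ⟨-, hfix', hcard'⟩ := a.offender h ha' (not_img_le h hF hb hR) hb'
    rw [hfix'] at h1 h2
    refine ⟨hcov, ?_⟩
    rw [le_antisymm h2 h1] at hcard
    exact (Nat.eq_of_mul_eq_mul_right Nat.card_pos hcard).symm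
  · have hb' : Nat.card a.V * Nat.card (img c.V (rpath L) ⊓ a.Q : Subgroup S) ≤
        Nat.card (img c.V (rpath L)) *
          Nat.card (a.V ⊓ centralizer (img c.V (rpath L) : Set S) : Subgroup S) := by
      rw [eX]
      refine le_trans (Nat.mul_le_mul_left _ h4) ?_
      rw [← eY]
      exact hd.trans (Nat.mul_le_mul_left _ h2)
    obtain ⟨-, hfix', hcard'⟩ := a.offender h ha' (not_img_le h hF hb hR) hb'
    rw [eX] at hcard'
    rw [hfix'] at h1 h2
    have hd' : Nat.card c.V * Nat.card (img a.V L ⊓ c.Q : Subgroup S) ≤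
        Nat.card (img a.V L) *
          Nat.card (c.V ⊓ centralizer (img a.V L : Set S) : Subgroup S) := by
      rw [eY]
      calc _ ≤ Nat.card c.V * Nat.card (center S) := Nat.mul_le_mul_left _ h2
        _ = _ := hcard'.symm
        _ ≤ _ := Nat.mul_le_mul_left _ h4
    obtain ⟨hcov, hfix, hcard⟩ := c.offender h hc' (not_img_le h hF hb hC) hd'
    refine ⟨hcov, ?_⟩
    rw [eY, le_antisymm h2 h1] at hcard
    exact (Nat.eq_of_mul_eq_mul_right Nat.card_pos hcard).symm

theorem cover (hC : Crit F m a L c) (s : S) : ∃ y ∈ img a.V L, y⁻¹ * s ∈ c.Q :=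
  (crit_offender h hF hb hC).1 s

/-- `S` is covered, at the start, by images from the end. -/
theorem cover_start (hC : Crit F m a L c) (s : S) :
    ∃ w ∈ c.V, ∃ u, Link L u w ∧ u⁻¹ * s ∈ a.Q := by
  obtain ⟨u, hu, hq⟩ := cover h hF hb (crit_rev h hF hb hC) s
  obtain ⟨w, hw, hu'⟩ := mem_img.1 hu
  exact ⟨w, hw, u, hu'.of_rev, hq⟩

end Cfsg.Agent.PushFamily
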