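import Cfsg.Agent.PushFamily.Iso
import Cfsg.Agent.S2989
import Cfsg.Agent.S2990
import Cfsg.Agent.Core.Solvable

/-!
# Reduction of the existence theorems to the main case
-/

set_option autoImplicit false
set_option linter.unusedSectionVars false

universe u

namespace Cfsg.Agent.PushFamily

open Subgroup
open Cfsg.Agent.CentLarge (IsMuMax)
open scoped commutatorElement

variable {S : Type u} [Group S] [Finite S] {p : ℕ} [Fact p.Prime]

/-- `C_S(Z(J(S)))`. -/
def Jt (S : Type u) [Group S] : Subgroup S :=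
  centralizer ((Cfsg.thompsonSubgroupA S ⊓ centralizer (Cfsg.thompsonSubgroupA S : Set S) :
    Subgroup S) : Set S)

/-- `S₁` or `S₂` is normal in every situation. -/
def Works (p : ℕ) (S₁ S₂ : Subgroup S) : Prop :=
  ∀ (G : Type u) [Group G] [Finite G] (P : Subgroup G) (e : S ≃* ↥P),
    Cfsg.IsPushingUpSituation p P →
      (S₁.map (P.subtype.comp e.toMonoidHom)).Normal ∨ (S₂.map (P.subtype.comp e.toMonoidHom)).Normal

/-- A pair as required. -/
structure Pr (p : ℕ) (S : Type u) [Group S] [Finite S] (S₁ S₂ : Subgroup S) : Prop where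
  ne₁ : S₁ ≠ ⊥
  ne₂ : S₂ ≠ ⊥
  char₁ : S₁.Characteristic
  char₂ : S₂.Characteristic
  le₁ : S₁ ≤ center S
  le₂ : S₂ ≤ Jt S
  charJ : (S₂.subgroupOf (Jt S)).Characteristic
  works : Works p S₁ S₂

theorem char_inf {A B : Subgroup S} (hA : A.Characteristic) (hB : B.Characteristic) :
    (A ⊓ B).Characteristic :=
  characteristic_iff_comap_eq.2 fun φ => by
    rw [Subgroup.comap_inf, characteristic_iff_comap_eq.1 hA φ, characteristic_iff_comap_eq.1 hB φ]

theorem thompsonA_char : (Cfsg.thompsonSubgroupA S).Characteristic :=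
  characteristic_iff_map_eq.2 fun φ => map_thompsonA φ

theorem Jt_char : (Jt S).Characteristic := by
  haveI := thompsonA_char (S := S)
  haveI := char_inf (thompsonA_char (S := S))
    (inferInstance : (centralizer (Cfsg.thompsonSubgroupA S : Set S)).Characteristic)
  exact Subgroup.characteristic_centralizer

theorem mclJoin_char : (Cfsg.minimalCentrallyLargeJoin S).Characteristic :=
  characteristic_iff_map_eq.2 fun φ => map_mclJoin φ

theorem phiJoin_char : (Cfsg.frattiniOfMinimalCLJoin p S).Characteristic :=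
  characteristic_iff_map_eq.2 fun φ => map_phiJoin φ

theorem mcl_comm_char {Q : Subgroup S} (hQ : Cfsg.IsMinimalCentrallyLarge Q) :
    (⁅Q, Q⁆).Characteristic := by
  refine characteristic_iff_map_eq.2 fun φ => ?_
  rw [Subgroup.map_commutator]
  exact le_antisymm
    ((CentLarge.commutator_le_inf ((mcl_iff φ Q).2 hQ) hQ).trans
      (Subgroup.commutator_mono inf_le_right inf_le_right))
    ((CentLarge.commutator_le_inf hQ ((mcl_iff φ Q).2 hQ)).trans
      (Subgroup.commutator_mono inf_le_right inf_le_right))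

/-- Transporting a centre along the embedding. -/
theorem map_center_inf {G : Type u} [Group G] {P : Subgroup G} (e : S ≃* ↥P) (D : Subgroup S) :
    (center S ⊓ D).map (P.subtype.comp e.toMonoidHom) =
      (P ⊓ centralizer (P : Set G)) ⊓ (D.map e.toMonoidHom).map P.subtype := by
  refine le_antisymm ?_ ?_
  · rintro _ ⟨z, ⟨hz, hzD⟩, rfl⟩
    refine ⟨⟨(e z).2, mem_centralizer_iff.2 fun g hg => ?_⟩, ⟨e z, ⟨z, hzD, rfl⟩, rfl⟩⟩
    obtain ⟨s, hs⟩ := e.surjective ⟨g, hg⟩
    have := congrArg Subtype.val (congrArg e (mem_center_iff.1 hz s))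
    rw [map_mul, map_mul, hs] at this
    exact this
  · rintro g ⟨⟨-, hgc⟩, ⟨_, ⟨z, hzD, rfl⟩, rfl⟩⟩
    refine ⟨z, ⟨mem_center_iff.2 fun s => e.injective (Subtype.ext ?_), hzD⟩, rfl⟩
    rw [map_mul, map_mul]
    exact mem_centralizer_iff.1 hgc _ (e s).2

theorem map_center {G : Type u} [Group G] {P : Subgroup G} (e : S ≃* ↥P) :
    (center S).map (P.subtype.comp e.toMonoidHom) = P ⊓ centralizer (P : Set G) := by
  have h := map_center_inf e (⊤ : Subgroup S)
  rw [inf_top_eq, Subgroup.map_top_of_surjective e.toMonoidHom e.surjective,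
    ← MonoidHom.range_eq_map, P.range_subtype] at h
  rw [h]
  exact inf_eq_left.2 inf_le_left

theorem normal_of_central {G : Type u} [Group G] {A : Subgroup G} (hA : A ≤ center G) :
    A.Normal :=
  ⟨fun a ha g => by rw [mem_center_iff.1 (hA ha) g, mul_inv_cancel_right]; exact ha⟩

/-- A situation, as a `Sit`. -/
theorem exists_sit {G : Type u} [Group G] [Finite G] {P : Subgroup G} (e : S ≃* ↥P)
    (hE : Cfsg.IsPushingUpSituation p P) :
    ∃ (P₀ : Sylow p G) (M K : Subgroup G) (e₀ : S ≃* ↥(P₀ : Subgroup G))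
      (st : PushRankOne.Setup p P₀ M K)
      (psl : ∃ (F : Type) (_ : Field F) (_ : Fintype F) (n : ℕ), Fintype.card F = p ^ n ∧
        Nonempty (letI := st.hK; G ⧸ K ≃* Matrix.ProjectiveSpecialLinearGroup (Fin 2) F)),
      (P₀ : Subgroup G) = P ∧
        (⟨G, P₀, e₀, M, K, st, psl⟩ : Sit p S).emb = P.subtype.comp e.toMonoidHom := by
  obtain ⟨-, ⟨P₀, rfl⟩, hC, huniq, K, hK, F, iF, iFt, n, hF, hiso⟩ := hE
  haveI := hK
  obtain ⟨M, hs⟩ := PushRankOne.setup_of_iso P₀ hC huniq K F n hF hiso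
  exact ⟨P₀, M, K, e, hs, ⟨F, iF, iFt, n, hF, hiso⟩, rfl, rfl⟩

/-- The case `[Z(J(S)), S] ≠ 1`. -/
theorem case_zj (hS : IsPGroup p S)
    (hne : ⁅Cfsg.thompsonSubgroupA S ⊓ centralizer (Cfsg.thompsonSubgroupA S : Set S),
      (⊤ : Subgroup S)⁆ ≠ ⊥) :
    Pr p S (center S ⊓ ⁅Cfsg.thompsonSubgroupA S ⊓ centralizer (Cfsg.thompsonSubgroupA S : Set S),
      (⊤ : Subgroup S)⁆) (Jt S) := by
  haveI := thompsonA_char (S := S)
  set ZJ := Cfsg.thompsonSubgroupA S ⊓ centralizer (Cfsg.thompsonSubgroupA S : Set S) with hZJ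
  haveI hZc : ZJ.Characteristic := char_inf (thompsonA_char (S := S)) inferInstance
  haveI := hS.isNilpotent
  have hne₁ : center S ⊓ ⁅ZJ, (⊤ : Subgroup S)⁆ ≠ ⊥ := by
    rw [inf_comm]; exact Core.inf_center_ne_bot hne
  refine ⟨hne₁, fun e => hne₁ (le_bot_iff.1 ?_),
    char_inf inferInstance inferInstance, Jt_char, inf_le_left, le_rfl, ?_, ?_⟩
  · refine le_trans inf_le_left (le_trans ?_ e.le)
    exact le_centralizer_iff.1 (le_trans le_top (top_le_iff.1 fun s _ => mem_centralizer_iff.2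
      fun z hz => (mem_center_iff.1 hz s).symm).ge)
  · rw [subgroupOf_self]; infer_instance
  intro G _ _ P e hE
  obtain ⟨P₀, M, K, e₀, hs, psl, rfl, hemb⟩ := exists_sit e hE
  set f := (P₀ : Subgroup G).subtype.comp e.toMonoidHom with hf
  have hfinj : Function.Injective f := (P₀ : Subgroup G).subtype_injective.comp e.injective
  have hr : f.range = (P₀ : Subgroup G) := by
    rw [hf, MonoidHom.range_comp, MonoidHom.range_eq_top.2 e.surjective, ← MonoidHom.range_eq_map,
      Subgroup.range_subtype]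
  by_cases hnc : (P₀ : Subgroup G) ⊓ centralizer ((P₀ : Subgroup G) : Set G) ≤ center G
  · refine Or.inl (normal_of_central (le_trans (map_mono inf_le_left) ?_))
    rw [hf, map_center e]
    exact hnc
  -- `Z(J)` inside the group
  have hJ : Cfsg.thompsonSubgroupAOf (P₀ : Subgroup G) = (Cfsg.thompsonSubgroupA S).map f := by
    rw [hf, ← Subgroup.map_map, Cfsg.thompsonSubgroupAOf, map_thompsonA e]
  have hcen : ∀ H : Subgroup S, (centralizer (H : Set S)).map f =
      (P₀ : Subgroup G) ⊓ centralizer (H.map f : Set G) := fun H => by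
    refine le_antisymm ?_ ?_
    · rintro _ ⟨s, hs', rfl⟩
      refine ⟨hr.le ⟨s, rfl⟩, mem_centralizer_iff.2 ?_⟩
      rintro _ ⟨t, ht, rfl⟩
      rw [← map_mul, ← map_mul, mem_centralizer_iff.1 hs' t ht]
    · rintro g ⟨hg, hgc⟩
      obtain ⟨s, rfl⟩ := hr.ge hg
      refine ⟨s, mem_centralizer_iff.2 fun t ht => hfinj ?_, rfl⟩
      rw [map_mul, map_mul, mem_centralizer_iff.1 hgc _ ⟨t, ht, rfl⟩]
  have hzj : PushRankOne.zj P₀ = ZJ.map f := by
    show Cfsg.thompsonSubgroupAOf (P₀ : Subgroup G) ⊓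
      centralizer (Cfsg.thompsonSubgroupAOf (P₀ : Subgroup G) : Set G) = _
    rw [hJ, hZJ, Subgroup.map_inf _ _ _ hfinj, hcen, ← inf_assoc,
      inf_eq_left.2 (show (Cfsg.thompsonSubgroupA S).map f ≤ (P₀ : Subgroup G) from
        (map_le_range f _).trans hr.le)]
  rcases PushRankOne.main hs hnc with h | ⟨-, E, hE', hEc, hdec⟩
  · refine Or.inr ?_
    show ((Jt S).map f).Normal
    rw [Jt, hcen, ← hZJ, ← hzj]
    exact h
  · refine Or.inl (normal_of_central ?_)
    haveI := hE'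
    have hle : (⁅ZJ, (⊤ : Subgroup S)⁆).map f ≤ E := by
      rw [map_commutator, ← MonoidHom.range_eq_map, hr]
      refine commutator_le.2 fun z hz s hs' => ?_
      obtain ⟨w, hw, -, d, hd, rfl⟩ := hdec z (hzj.ge hz)
      have hws : Commute w s := (mem_centralizer_iff.1 hw.2 s hs').symm
      have h1 : ⁅d, s⁆ ∈ E := by
        rw [commutatorElement_def, show d * s * d⁻¹ * s⁻¹ = d * (s * d⁻¹ * s⁻¹) by group]
        exact E.mul_mem hd (hE'.conj_mem _ (E.inv_mem hd) s)
      have e1 : ⁅w * d, s⁆ = w * ⁅d, s⁆ * w⁻¹ * ⁅w, s⁆ := by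
        simp only [commutatorElement_def]; group
      rw [e1, commutatorElement_eq_one_iff_mul_comm.2 hws.eq, mul_one]
      exact hE'.conj_mem _ h1 w
    rintro g ⟨s, ⟨hs₁, hs₂⟩, rfl⟩
    refine hEc _ (hle ⟨s, hs₂, rfl⟩) ?_
    exact ((map_center e).le ⟨s, hs₁, rfl⟩).2

variable (hS : IsPGroup p S) (hJt : Jt S = ⊤)

include hJt in
theorem Pr.of_top {S₁ S₂ : Subgroup S} (h1 : S₁ ≠ ⊥) (h2 : S₂ ≠ ⊥) (h3 : S₁.Characteristic)
    (h4 : S₂.Characteristic) (h5 : S₁ ≤ center S) (h6 : Works p S₁ S₂) : Pr p S S₁ S₂ := by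
  refine ⟨h1, h2, h3, h4, h5, hJt ▸ le_top, ?_, h6⟩
  rw [hJt]
  let E : ↥(⊤ : Subgroup S) ≃* S := Subgroup.topEquiv
  refine characteristic_iff_comap_eq.2 fun φ => ?_
  ext x
  have h' := SetLike.ext_iff.1 (characteristic_iff_comap_eq.1 h4 ((E.symm.trans φ).trans E)) (E x)
  show E (φ x) ∈ S₂ ↔ E x ∈ S₂
  have e2 : ((E.symm.trans φ).trans E) (E x) = E (φ x) := by simp
  rw [← e2]
  exact h'

include hJt in
theorem zj_comm_bot {G : Type u} [Group G] (P : Subgroup G) (e : S ≃* ↥P) :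
    P ≤ centralizer (Cfsg.centerThompsonAOf P : Set G) := by
  intro g hg
  obtain ⟨s, hs⟩ := e.surjective ⟨g, hg⟩
  refine mem_centralizer_iff.2 fun z hz => ?_
  obtain ⟨⟨⟨z', hz'P⟩, hz'J, rfl⟩, hzc⟩ := hz
  rw [← map_thompsonA e] at hz'J
  obtain ⟨t, ht, hte⟩ := hz'J
  have htJ : t ∈ Cfsg.thompsonSubgroupA S ⊓ centralizer (Cfsg.thompsonSubgroupA S : Set S) := by
    refine ⟨ht, mem_centralizer_iff.2 fun u hu => e.injective (Subtype.ext ?_)⟩
    have h1 := mem_centralizer_iff.1 hzc _ ⟨e u, (map_thompsonA e).le ⟨u, hu, rfl⟩, rfl⟩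
    rw [map_mul, map_mul, show e t = ⟨z', hz'P⟩ from hte]
    exact h1
  have h1 := mem_centralizer_iff.1 (hJt.ge (mem_top s) : s ∈ Jt S) t htJ
  have h2 := congrArg Subtype.val (congrArg e h1)
  rw [map_mul, map_mul, hs, show e t = ⟨z', hz'P⟩ from hte] at h2
  exact h2

include hS hJt

/-- A nonabelian minimal centrally large subgroup. -/
theorem case_mcl {Q : Subgroup S} (hQ : Cfsg.IsMinimalCentrallyLarge Q) (hne : ⁅Q, Q⁆ ≠ ⊥) :
    Pr p S (center S ⊓ ⁅Q, Q⁆) (Cfsg.minimalCentrallyLargeJoin S) := by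
  haveI := hS.isNilpotent
  haveI := mcl_comm_char hQ
  refine Pr.of_top hJt (by rw [inf_comm]; exact Core.inf_center_ne_bot hne) (fun e => hne ?_)
    (char_inf inferInstance inferInstance) mclJoin_char inf_le_left ?_
  · have hle : Q ≤ ⊥ := (le_sSup (s := {R | Cfsg.IsMinimalCentrallyLarge R}) hQ).trans e.le
    exact le_bot_iff.1 ((commutator_le_self Q).trans hle)
  intro G _ _ P e hE
  rcases (S2990.result P hE (zj_comm_bot hJt P e) (Q.map e.toMonoidHom) ((mcl_iff e Q).2 hQ)).2.1 with h | h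
  · refine Or.inl ?_
    rw [map_center_inf e, map_commutator]
    exact h
  · refine Or.inr ?_
    rw [← Subgroup.map_map, map_mclJoin e]
    exact h

/-- The subgroup `S_Φ`. -/
theorem case_phi [Nontrivial S] (hne : Cfsg.frattiniOfMinimalCLJoin p S ≠ ⊥) :
    Pr p S (center S) (Cfsg.frattiniOfMinimalCLJoin p S) := by
  haveI := hS.center_nontrivial
  refine Pr.of_top hJt ((nontrivial_iff_ne_bot _).1 inferInstance) hne inferInstance phiJoin_char
    le_rfl ?_
  intro G _ _ P e hE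
  rcases (S2989.result P hE (zj_comm_bot hJt P e)).1 with h | h
  · refine Or.inl ?_
    rw [map_center e]
    exact h
  · refine Or.inr ?_
    rw [← Subgroup.map_map, map_phiJoin e]
    exact h

/-- `Z(S)` is not elementary abelian. -/
theorem case_center {z₀ : S} (hz₀ : z₀ ∈ center S) (hpow : z₀ ^ p ≠ 1) :
    Pr p S (closure {y | ∃ z ∈ center S, z ^ p = y}) ⊤ := by
  have h1 : closure {y | ∃ z ∈ center S, z ^ p = y} ≠ ⊥ := fun e =>
    hpow (mem_bot.1 (e.le (Subgroup.subset_closure ⟨z₀, hz₀, rfl⟩)))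
  refine Pr.of_top hJt h1 (fun e => h1 (le_bot_iff.1 (e ▸ le_top))) ?_ Subgroup.topCharacteristic
    ((closure_le _).2 fun y ⟨z, hz, e⟩ => e ▸ pow_mem hz p) ?_
  · refine characteristic_iff_map_le.2 fun φ => ?_
    rw [MonoidHom.map_closure, closure_le]
    rintro _ ⟨_, ⟨z, hz, rfl⟩, rfl⟩
    exact Subgroup.subset_closure ⟨φ z,
      (characteristic_iff_map_le.1 (inferInstance : (center S).Characteristic) φ) ⟨z, hz, rfl⟩,
      (map_pow φ z p).symm⟩
  intro G _ _ P e hE
  obtain ⟨P₀, M, K, e₀, hs, psl, rfl, hemb⟩ := exists_sit e hE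
  refine Or.inl (normal_of_central (map_le_iff_le_comap.2 ((closure_le _).2 ?_)))
  rintro _ ⟨z, hz, rfl⟩
  show ((P₀ : Subgroup G).subtype.comp e.toMonoidHom) (z ^ p) ∈ center G
  have hzP := (map_center e).le ⟨z, hz, rfl⟩
  set g := ((P₀ : Subgroup G).subtype.comp e.toMonoidHom) z with hg
  rw [map_pow, ← hg]
  by_cases hnc : (P₀ : Subgroup G) ⊓ centralizer ((P₀ : Subgroup G) : Set G) ≤ center G
  · exact pow_mem (hnc hzP) p
  rcases PushRankOne.main hs hnc with h | ⟨-, E, hE', hEc, hdec⟩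
  · exfalso
    rw [inf_eq_left.2 (show (P₀ : Subgroup G) ≤ centralizer (PushRankOne.zj P₀ : Set G)
      from zj_comm_bot hJt (P₀ : Subgroup G) e)] at h
    exact hs.notNormal (haveI := h; haveI := hs.hK; inferInstance)
  · obtain ⟨w, hw, hwp, d, hd, e1⟩ := hdec g (PushRankOne.center_sylow_le_zj P₀ hzP)
    have hdc : d ∈ centralizer ((P₀ : Subgroup G) : Set G) := by
      have e2 : d = w⁻¹ * g := by rw [e1, inv_mul_cancel_left]
      rw [e2]
      exact mul_mem (inv_mem hw.2) hzP.2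
    have hdZ := hEc d hd hdc
    rw [e1, (show Commute w d from mem_center_iff.1 hdZ w).mul_pow, hwp, one_mul]
    exact pow_mem hdZ p

end Cfsg.Agent.PushFamily
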