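import Cfsg.Agent.PushUp.Main
import Cfsg.Agent.CentLarge.MaxAbelian

/-!
# One pushing-up situation for a fixed `p`-group

`V` and `Q` are pulled back to `S`. If `Z(S)` is not central in the group, `Q` is of largest
measure with centralizer `V`.
-/

set_option autoImplicit false
set_option linter.unusedSectionVars false

universe u

namespace Cfsg.Agent.PushFamily

open Subgroup Cfsg.Agent.PushRankOne
open Cfsg.Agent.Offender (cj mem_cj)
open Cfsg.Agent.CentLarge (IsMuMax)
open scoped commutatorElement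

variable {S : Type u} [Group S] [Finite S] {p : ℕ} [Fact p.Prime]

/-- A group containing `S` as a Sylow subgroup in the rank-one pushing-up situation. -/
structure Sit (p : ℕ) (S : Type u) [Group S] : Type (u + 1) where
  G : Type u
  [grp : Group G]
  [fin : Finite G]
  P : Sylow p G
  e : S ≃* ↥(P : Subgroup G)
  M : Subgroup G
  K : Subgroup G
  st : Setup p P M K
  psl : ∃ (F : Type) (_ : Field F) (_ : Fintype F) (n : ℕ),
    Fintype.card F = p ^ n ∧ Nonempty (letI := st.hK; G ⧸ K ≃* Matrix.ProjectiveSpecialLinearGroup (Fin 2) F)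

attribute [instance] Sit.grp Sit.fin

namespace Sit

variable (i : Sit p S)

/-- The embedding. -/
def emb : S →* i.G := (i.P : Subgroup i.G).subtype.comp i.e.toMonoidHom

/-- The same group, twisted by an automorphism of `S`. -/
def twist (β : MulAut S) : Sit p S :=
  { i with e := β.trans i.e }

theorem twist_emb (β : MulAut S) (s : S) : (i.twist β).emb s = i.emb (β s) := rfl

theorem emb_injective : Function.Injective i.emb :=
  (i.P : Subgroup i.G).subtype_injective.comp i.e.injective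

theorem emb_mem (s : S) : i.emb s ∈ (i.P : Subgroup i.G) := (i.e s).2

theorem emb_range : i.emb.range = (i.P : Subgroup i.G) := by
  ext g
  refine ⟨fun ⟨s, e⟩ => e ▸ i.emb_mem s, fun hg => ⟨i.e.symm ⟨g, hg⟩, ?_⟩⟩
  simp [emb]

theorem exists_emb {g : i.G} (hg : g ∈ (i.P : Subgroup i.G)) : ∃ s, i.emb s = g :=
  (i.emb_range.ge hg : g ∈ i.emb.range)

theorem map_emb_comap {H : Subgroup i.G} (hH : H ≤ (i.P : Subgroup i.G)) :
    (H.comap i.emb).map i.emb = H := by
  rw [map_comap_eq, i.emb_range, inf_eq_right.2 hH]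

/-- The normal closure of the center of `S`. -/
def Vg : Subgroup i.G := normalClosure ((center S).map i.emb : Set i.G)

instance Vg_normal : i.Vg.Normal := normalClosure_normal

/-- `V`, in `S`. -/
def V : Subgroup S := i.Vg.comap i.emb

/-- `O_p(G)`, in `S`. -/
def Q : Subgroup S := (Cfsg.pCore p i.G).comap i.emb

/-- The elements of `S` central in the group. -/
def Zc : Subgroup S := (center i.G).comap i.emb

/-- `Z(S)` is not central. -/
def Nc : Prop := ¬ center S ≤ i.Zc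

instance V_normal : i.V.Normal := (inferInstance : i.Vg.Normal).comap _

instance Q_normal : i.Q.Normal := (inferInstance : (Cfsg.pCore p i.G).Normal).comap _

theorem Zc_le : i.Zc ≤ center S := fun z hz => mem_center_iff.2 fun s => i.emb_injective (by
  rw [map_mul, map_mul]; exact mem_center_iff.1 hz _)

theorem QP : Cfsg.pCore p i.G ≤ (i.P : Subgroup i.G) := Core.pCore_le_sylow i.P

theorem map_center_le : (center S).map i.emb ≤
    (i.P : Subgroup i.G) ⊓ centralizer ((i.P : Subgroup i.G) : Set i.G) := by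
  rintro _ ⟨z, hz, rfl⟩
  refine ⟨i.emb_mem z, mem_centralizer_iff.2 fun g hg => ?_⟩
  obtain ⟨s, rfl⟩ := i.exists_emb hg
  rw [← map_mul, ← map_mul, mem_center_iff.1 hz s]

theorem Vg_le : i.Vg ≤ Cfsg.pCore p i.G ⊓ centralizer (Cfsg.pCore p i.G : Set i.G) := by
  refine normalClosure_le_normal fun z hz => ?_
  have h1 := i.map_center_le hz
  have h2 : z ∈ centralizer (Cfsg.pCore p i.G : Set i.G) := Subgroup.centralizer_le i.QP h1.2
  exact ⟨i.st.hC h2, h2⟩

theorem mem_Q {s : S} : s ∈ i.Q ↔ i.emb s ∈ Cfsg.pCore p i.G := Iff.rfl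

theorem mem_V {s : S} : s ∈ i.V ↔ i.emb s ∈ i.Vg := Iff.rfl

theorem map_V : i.V.map i.emb = i.Vg :=
  i.map_emb_comap ((i.Vg_le.trans inf_le_left).trans i.QP)

theorem map_Q : i.Q.map i.emb = Cfsg.pCore p i.G := i.map_emb_comap i.QP

theorem center_le_V : center S ≤ i.V := fun z hz => le_normalClosure ⟨z, hz, rfl⟩

theorem V_le_Q : i.V ≤ i.Q := fun _ hv => (i.Vg_le hv).1

theorem Q_comm {q v : S} (hq : q ∈ i.Q) (hv : v ∈ i.V) : Commute q v :=
  i.emb_injective (by rw [map_mul, map_mul]; exact mem_centralizer_iff.1 (i.Vg_le hv).2 _ hq)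

/-- Conjugation inside `O_p(G)`, pulled back. -/
theorem exists_conj {x : S} (hx : x ∈ i.Q) (k : i.G) :
    ∃ y ∈ i.Q, i.emb y = k * i.emb x * k⁻¹ := by
  have h : k * i.emb x * k⁻¹ ∈ Cfsg.pCore p i.G :=
    (inferInstance : (Cfsg.pCore p i.G).Normal).conj_mem _ hx k
  obtain ⟨y, hy⟩ := i.exists_emb (i.QP h)
  exact ⟨y, by rw [mem_Q, hy]; exact h, hy⟩

theorem pow_mem_Q (s : S) : s ^ p ∈ i.Q := by
  rw [mem_Q, i.st.pCore_eq, map_pow]
  exact ⟨pow_mem (i.emb_mem s) p, i.st.pow _ (i.emb_mem s)⟩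

theorem comm_mem_Q (s t : S) : ⁅s, t⁆ ∈ i.Q := by
  rw [mem_Q, i.st.pCore_eq]
  refine ⟨i.emb_mem _, ?_⟩
  have h := i.st.comm _ (i.emb_mem s) _ (i.emb_mem t)
  rw [map_commutatorElement, commutatorElement_def]
  rwa [mul_inv_rev, ← mul_assoc] at h

theorem not_le_Q : ¬ (i.P : Subgroup i.G) ≤ Cfsg.pCore p i.G := fun hle => by
  refine i.st.notNormal ?_
  rw [sup_eq_right.2 (hle.trans (i.st.pCore_eq.le.trans inf_le_right))]
  exact i.st.hK

theorem Q_ne_top : i.Q ≠ ⊤ := fun e => i.not_le_Q fun g hg => by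
  obtain ⟨s, rfl⟩ := i.exists_emb hg
  exact (e.ge (mem_top s) : s ∈ i.Q)

theorem eq_top_of_normal {N : Subgroup i.G} [N.Normal] (hS : (i.P : Subgroup i.G) ≤ N) : N = ⊤ :=
  i.st.eq_top_of_not_le hS fun hle =>
    i.not_le_Q ((le_inf le_rfl hS).trans (i.st.normal_inf_le hle))

/-- A normal subgroup inside `Z(S)` is central. -/
theorem normal_center {N : Subgroup i.G} [N.Normal] (hN : N ≤ (center S).map i.emb) :
    N ≤ center i.G := by
  have h := i.eq_top_of_normal (N := centralizer (N : Set i.G))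
    (le_centralizer_iff.1 ((hN.trans i.map_center_le).trans inf_le_right))
  exact fun z hz => mem_center_iff.2 fun g =>
    (mem_centralizer_iff.1 (h.ge (mem_top g)) z hz).symm

theorem mem_Zc_of {r : S} {k : i.G} (hgen : (i.P : Subgroup i.G) ⊔ cj k (i.P : Subgroup i.G) = ⊤)
    (hr : r ∈ center S) {r' : S} (hr' : r' ∈ center S) (he : i.emb r' = k⁻¹ * i.emb r * k) :
    r ∈ i.Zc := by
  have hle : (⊤ : Subgroup i.G) ≤ centralizer ({i.emb r} : Set i.G) := by
    refine hgen ▸ sup_le (fun g hg => ?_) (fun g hg => ?_)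
    · exact mem_centralizer_singleton_iff.2
        (mem_centralizer_iff.1 (i.map_center_le ⟨r, hr, rfl⟩).2 g hg)
    · obtain ⟨s, hs⟩ := i.exists_emb (mem_cj.1 hg)
      refine mem_centralizer_singleton_iff.2 ?_
      have h1 : Commute (k⁻¹ * g * k) (i.emb r') :=
        mem_centralizer_iff.1 (i.map_center_le ⟨r', hr', rfl⟩).2 _ (hs ▸ i.emb_mem s)
      rw [he] at h1
      simpa [mul_assoc] using (h1.map (MulAut.conj k).toMonoidHom).eq
  exact mem_center_iff.2 fun g => mem_centralizer_singleton_iff.1 (hle (mem_top g))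

theorem exists_gen : ∃ k : i.G, (i.P : Subgroup i.G) ⊔ cj k (i.P : Subgroup i.G) = ⊤ := by
  obtain ⟨x, hx⟩ := PushUp.exists_notMem' i.st.toSetup₀
  exact ⟨x, PushUp.sup_cj i.st.toSetup₀ hx⟩

end Sit

/-- The standing hypotheses on `S`. -/
structure Hyp (p : ℕ) (S : Type u) [Group S] : Prop where
  hS : IsPGroup p S
  hZ : Cfsg.IsElementaryAbelian p (center S)
  hJ : Cfsg.thompsonSubgroupA S = ⊤
  htop : IsMuMax (⊤ : Subgroup S)
  hf : ∀ A ∈ Cfsg.maxAbelianSubgroups S, Nat.card A ^ 2 = Nat.card S * Nat.card (center S)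

theorem Hyp.isMuMax_of (h : Hyp p S) {H : Subgroup S}
    (hH : Nat.card S * Nat.card (center S) ≤ CentLarge.mu H) : IsMuMax H :=
  h.htop.of_le (by rwa [CentLarge.mu_top])

theorem Hyp.mu_eq (h : Hyp p S) {H : Subgroup S} (hH : IsMuMax H) :
    CentLarge.mu H = Nat.card S * Nat.card (center S) := by
  rw [hH.mu_eq h.htop, CentLarge.mu_top]

namespace Sit

variable (i : Sit p S) (h : Hyp p S) (hi : i.Nc)

include h in
theorem Vg_ea : Cfsg.IsElementaryAbelian p i.Vg := by
  have hab : i.Vg ≤ centralizer (i.Vg : Set i.G) :=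
    (i.Vg_le.trans inf_le_right).trans (Subgroup.centralizer_le (i.Vg_le.trans inf_le_left))
  refine Thompson.ea_iff.2 ⟨hab, ?_⟩
  let P : Subgroup i.G :=
    { carrier := {v | v ∈ i.Vg ∧ v ^ p = 1}
      one_mem' := ⟨one_mem _, one_pow p⟩
      mul_mem' := fun {a b} ha hb => ⟨mul_mem ha.1 hb.1, by
        rw [(show Commute a b from mem_centralizer_iff.1 (hab hb.1) a ha.1).mul_pow, ha.2, hb.2, one_mul]⟩
      inv_mem' := fun {a} ha => ⟨inv_mem ha.1, by rw [inv_pow, ha.2, inv_one]⟩ }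
  haveI hPn : P.Normal := ⟨fun v hv g => ⟨(inferInstance : i.Vg.Normal).conj_mem v hv.1 g, by
    rw [conj_pow, hv.2, mul_one, mul_inv_cancel]⟩⟩
  refine fun v hv => ((normalClosure_le_normal (N := P) (fun z hz => ⟨le_normalClosure hz, ?_⟩)) hv).2
  obtain ⟨z₀, hz₀, rfl⟩ := hz
  rw [← map_pow, h.hZ.2 z₀ hz₀, map_one]

include h in
theorem V_pow {v : S} (hv : v ∈ i.V) : v ^ p = 1 :=
  i.emb_injective (by rw [map_pow, map_one]; exact (i.Vg_ea h).2 _ hv)

theorem V_comm {v w : S} (hv : v ∈ i.V) (hw : w ∈ i.V) : Commute v w :=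
  i.Q_comm (i.V_le_Q hv) hw

include h hi

theorem exists_ground : ∃ z, Ground p i.P i.Vg z := by
  obtain ⟨z, hz, hzc⟩ := SetLike.not_le_iff_exists.1 hi
  have hzS := i.map_center_le ⟨z, hz, rfl⟩
  have hCM : centralizer (i.Vg : Set i.G) ≤ i.M := by
    refine le_trans (Subgroup.centralizer_le
      (Set.singleton_subset_iff.2 (show i.emb z ∈ i.Vg from i.center_le_V hz))) ?_
    by_contra hnot
    have := i.st.eq_top_of_not_le (H := centralizer ({i.emb z} : Set i.G)) (fun s hs =>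
      mem_centralizer_singleton_iff.2 (mem_centralizer_iff.1 hzS.2 s hs)) hnot
    exact hzc (mem_center_iff.2 fun g => mem_centralizer_singleton_iff.1 (this.ge (mem_top g)))
  exact ⟨i.emb z, inferInstance, i.Vg_ea h,
    le_antisymm (i.st.normal_inf_le hCM)
      (le_inf i.QP (le_centralizer_iff.1 (i.Vg_le.trans inf_le_right))),
    i.center_le_V hz, hzS.2, hzc⟩

theorem Q_eq : i.Q = centralizer (i.V : Set S) := by
  obtain ⟨z, hg⟩ := i.exists_ground h hi
  refine le_antisymm (fun q hq => mem_centralizer_iff.2 fun v hv => (i.Q_comm hq hv).symm.eq)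
    fun s hs => hg.hQ.le ⟨i.emb_mem s, mem_centralizer_iff.2 fun w hw => ?_⟩
  obtain ⟨v, hv, rfl⟩ := i.map_V.ge hw
  rw [← map_mul, ← map_mul, mem_centralizer_iff.1 hs v hv]

theorem mem_Q_of_comm {y : S} (hy : ∀ v ∈ i.V, Commute y v) : y ∈ i.Q :=
  (i.Q_eq h hi).ge (mem_centralizer_iff.2 fun v hv => (hy v hv).symm.eq)

/-- An offender on `V` covers `S / Q`. -/
theorem offender {W : Subgroup S} (hW : ¬ W ≤ i.Q)
    (hb : Nat.card i.V * Nat.card (W ⊓ i.Q : Subgroup S) ≤
      Nat.card W * Nat.card (i.V ⊓ centralizer (W : Set S) : Subgroup S)) :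
    (∀ s, ∃ w ∈ W, w⁻¹ * s ∈ i.Q) ∧ i.V ⊓ centralizer (W : Set S) = center S ∧
      Nat.card i.V * Nat.card (W ⊓ i.Q : Subgroup S) = Nat.card W * Nat.card (center S) := by
  obtain ⟨z, hg⟩ := i.exists_ground h hi
  have hi' := i.emb_injective
  set A := W.map i.emb with hA
  have hAP : A ≤ (i.P : Subgroup i.G) := by
    rintro _ ⟨w, -, rfl⟩
    exact i.emb_mem w
  have hAQ : ¬ A ≤ Cfsg.pCore p i.G := fun hle => hW fun w hw => hle ⟨w, hw, rfl⟩
  have e1 : A ⊓ Cfsg.pCore p i.G = (W ⊓ i.Q).map i.emb := by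
    rw [Subgroup.map_inf _ _ _ hi', i.map_Q]
  have e2 : i.Vg ⊓ centralizer (A : Set i.G) = (i.V ⊓ centralizer (W : Set S)).map i.emb := by
    refine le_antisymm ?_ ?_
    · rintro g ⟨hg1, hg2⟩
      obtain ⟨v, hv, rfl⟩ := i.map_V.ge hg1
      refine ⟨v, ⟨hv, mem_centralizer_iff.2 fun w hw => hi' ?_⟩, rfl⟩
      rw [map_mul, map_mul, mem_centralizer_iff.1 hg2 _ ⟨w, hw, rfl⟩]
    · rintro _ ⟨v, hv, rfl⟩
      refine ⟨hv.1, mem_centralizer_iff.2 ?_⟩
      rintro _ ⟨w, hw, rfl⟩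
      rw [← map_mul, ← map_mul, mem_centralizer_iff.1 hv.2 w hw]
  have cm : ∀ H : Subgroup S, Nat.card (H.map i.emb) = Nat.card H := fun H =>
    card_map_of_injective hi'
  obtain ⟨hcov, hfix, hcard, -⟩ := hg.full i.st.toSetup₀ A hAP hAQ (by
    rw [e1, e2, ← i.map_V, cm, cm, cm, cm]; exact hb)
  have hWZ : i.V ⊓ centralizer (W : Set S) = center S := by
    refine le_antisymm (fun v hv => mem_center_iff.2 fun s => hi' ?_)
      (le_inf i.center_le_V (center_le_centralizer _))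
    have h1 : i.emb v ∈ i.Vg ⊓ centralizer (A : Set i.G) := e2.ge ⟨v, hv, rfl⟩
    rw [hfix] at h1
    rw [map_mul, map_mul, mem_centralizer_iff.1 h1.2 _ (i.emb_mem s)]
  refine ⟨fun s => ?_, hWZ, ?_⟩
  · obtain ⟨_, ⟨w, hw, rfl⟩, hq⟩ := hcov _ (i.emb_mem s)
    exact ⟨w, hw, by rw [mem_Q, map_mul, map_inv]; exact hq⟩
  · rw [e1, e2, ← i.map_V, cm, cm, cm, cm, hWZ] at hcard
    exact hcard

theorem card_VQ : Nat.card i.V * Nat.card i.Q = Nat.card S * Nat.card (center S) := by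
  obtain ⟨A, hA, hAQ⟩ : ∃ A ∈ Cfsg.maxAbelianSubgroups S, ¬ A ≤ i.Q := by
    by_contra hcon
    push Not at hcon
    exact i.Q_ne_top (top_le_iff.1 (h.hJ.ge.trans (sSup_le hcon)))
  have hAc := CentLarge.isMulCommutative_iff_le_centralizer.1 hA.1
  have hVc : i.V ≤ centralizer (i.V : Set S) := fun v hv =>
    mem_centralizer_iff.2 fun w hw => (i.V_comm hw hv).eq
  have hVA : i.V ≤ centralizer ((A ⊓ i.Q : Subgroup S) : Set S) := fun v hv =>
    mem_centralizer_iff.2 fun a ha => (i.Q_comm ha.2 hv).eq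
  have hab := CentLarge.isMulCommutative_sup (inf_le_left.trans (hAc.trans
    (centralizer_le (SetLike.coe_subset_coe.2 inf_le_left)))) hVc (le_centralizer_iff.1 hVA)
  have h1 := CentLarge.card_mul_le_of_le (le_sup_left : A ⊓ i.Q ≤ (A ⊓ i.Q) ⊔ i.V) le_sup_right
  obtain ⟨hcov, -, hcard⟩ := i.offender h hi (W := A) hAQ (by
    rw [mul_comm]
    refine h1.trans (Nat.mul_le_mul (hA.2 _ hab) (card_le_of_le ?_))
    exact le_inf inf_le_right ((inf_le_left.trans inf_le_left).trans hAc))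
  have hle : i.Q ≤ ⊤ := le_top
  have hsup : A ⊔ i.Q = ⊤ := top_le_iff.1 fun s _ => by
    obtain ⟨a, ha, hq⟩ := hcov s
    have := mul_mem (mem_sup_left (T := i.Q) ha) (mem_sup_right (S := A) hq)
    rwa [mul_inv_cancel_left] at this
  have h2 := Core.card_sup_mul_card_inf A i.Q
  rw [hsup, Nat.card_congr Subgroup.topEquiv.toEquiv] at h2
  refine Nat.eq_of_mul_eq_mul_right (Nat.card_pos (α := A)) ?_
  calc Nat.card i.V * Nat.card i.Q * Nat.card A
      = Nat.card i.V * (Nat.card A * Nat.card i.Q) := by ring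
    _ = Nat.card i.V * (Nat.card S * Nat.card (A ⊓ i.Q : Subgroup S)) := by rw [h2]
    _ = Nat.card S * (Nat.card i.V * Nat.card (A ⊓ i.Q : Subgroup S)) := by ring
    _ = _ := by rw [hcard]; ring

theorem Q_muMax : IsMuMax i.Q ∧ centralizer (i.Q : Set S) = i.V := by
  have hle : i.V ≤ centralizer (i.Q : Set S) := fun v hv =>
    mem_centralizer_iff.2 fun q hq => (i.Q_comm hq hv).eq
  have hQ : IsMuMax i.Q := h.isMuMax_of (by
    rw [← i.card_VQ h hi, mul_comm]
    exact Nat.mul_le_mul_left _ (card_le_of_le hle))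
  refine ⟨hQ, (eq_of_le_of_card_ge hle ?_).symm⟩
  have e := h.mu_eq hQ
  rw [← i.card_VQ h hi, CentLarge.mu, mul_comm] at e
  exact (Nat.eq_of_mul_eq_mul_right Nat.card_pos e).le

theorem V_muMax : IsMuMax i.V := by
  obtain ⟨h1, h2⟩ := i.Q_muMax h hi
  exact h2 ▸ h1.centralizer_max.1

/-- `V` is a quadratic module, and only central points have central commutators. -/
theorem quad_regular : (∀ v ∈ i.V, ∀ s : S, ⁅v, s⁆ ∈ center S) ∧
    (∀ v ∈ i.V, ∀ s, s ∉ i.Q → ⁅s, v⁆ ∈ i.Zc → v ∈ center S) := by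
  obtain ⟨z, hg⟩ := i.exists_ground h hi
  set P := (i.P : Subgroup i.G) with hP
  have hbd : Nat.card i.Vg * Nat.card (P ⊓ Cfsg.pCore p i.G : Subgroup i.G) ≤
      Nat.card P * Nat.card (i.Vg ⊓ centralizer (P : Set i.G) : Subgroup i.G) := by
    have hZ : (center S).map i.emb ≤ i.Vg ⊓ centralizer (P : Set i.G) :=
      le_inf (map_le_iff_le_comap.2 i.center_le_V) (i.map_center_le.trans inf_le_right)
    refine le_trans ?_ (Nat.mul_le_mul_left _ (card_le_of_le hZ))
    rw [inf_eq_right.2 i.QP, ← i.map_V, ← i.map_Q, card_map_of_injective i.emb_injective,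
      card_map_of_injective i.emb_injective, card_map_of_injective i.emb_injective, i.card_VQ h hi,
      ← Nat.card_congr i.e.toEquiv]
  obtain ⟨B, hBS, hAB, hBQ, hBb, hstrict⟩ := hg.exists_minimal i.st.toSetup₀ P i.not_le_Q hbd
  obtain rfl : B = P := by
    refine le_antisymm hBS fun t ht => ?_
    obtain ⟨a, ha, hq⟩ := hg.exists_cover i.st.toSetup₀ B hBS hBQ hBb hstrict ht
    have := mul_mem ha (hAB ⟨mul_mem (P.inv_mem (hBS ha)) ht, hq⟩)
    rwa [mul_inv_cancel_left] at this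
  obtain ⟨x, hxM⟩ := PushUp.exists_notMem' i.st.toSetup₀
  obtain ⟨-, -, hreg, hquad⟩ := hg.run i.st.toSetup₀ P le_rfl i.not_le_Q hBb hstrict ⊤ le_top x
    (mem_top x) hxM (fun k _ hk => by rw [PushUp.sup_cj i.st.toSetup₀ hk]; exact le_sup_left)
  have hfix : ∀ {v : S}, i.emb v ∈ i.Vg ⊓ centralizer (P : Set i.G) → v ∈ center S := fun {v} hv =>
    mem_center_iff.2 fun s => i.emb_injective (by
      rw [map_mul, map_mul, mem_centralizer_iff.1 hv.2 _ (i.emb_mem s)])
  refine ⟨fun v hv s => ?_, fun v hv s hs hc => hfix (hreg _ (i.emb_mem s) hs _ hv ?_)⟩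
  · have h1 : ⁅s, v⁆ ∈ center S := hfix (by
      rw [map_commutatorElement, commutatorElement_def]
      exact hquad _ (i.emb_mem s) _ hv)
    rw [← commutatorElement_inv]
    exact inv_mem h1
  · have h1 : i.emb ⁅s, v⁆ ∈ center i.G := hc
    rw [map_commutatorElement, commutatorElement_def] at h1
    refine ⟨?_, center_le_centralizer _ h1⟩
    exact i.Vg.mul_mem ((inferInstance : i.Vg.Normal).conj_mem _ hv _) (i.Vg.inv_mem hv)

theorem quad {v : S} (hv : v ∈ i.V) (s : S) : ⁅v, s⁆ ∈ center S := (i.quad_regular h hi).1 v hv s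

theorem regular {v s : S} (hv : v ∈ i.V) (hs : s ∉ i.Q) (hc : ⁅s, v⁆ ∈ i.Zc) : v ∈ center S :=
  (i.quad_regular h hi).2 v hv s hs hc

theorem exists_notMem_V : ∃ v ∈ i.V, v ∉ center S := by
  by_contra hcon
  push Not at hcon
  refine i.Q_ne_top ((i.Q_eq h hi).trans (top_le_iff.1 fun s _ => mem_centralizer_iff.2 fun v hv => ?_))
  exact (mem_center_iff.1 (hcon v hv) s).symm

theorem V_eq_of_mem {j : Sit p S} (hj : j.Nc) {v : S} (hv : v ∈ i.V) (hv' : v ∈ j.V)
    (hvz : v ∉ center S) : i.V = j.V := by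
  have key : ∀ l : Sit p S, l.Nc → v ∈ l.V → centralizer ({v} : Set S) = l.Q := by
    intro l hl hlv
    refine le_antisymm (fun s hs => by_contra fun hsQ => hvz (l.regular h hl hlv hsQ ?_))
      fun q hq => mem_centralizer_singleton_iff.2 (l.Q_comm hq hlv).eq
    rw [commutatorElement_eq_one_iff_mul_comm.2 (mem_centralizer_singleton_iff.1 hs)]
    exact one_mem _
  rw [← (i.Q_muMax h hi).2, ← (j.Q_muMax h hj).2, ← key i hi hv, key j hj hv']

/-- The commutators `[V, S]`. -/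
theorem comm_le_center : ⁅i.V, (⊤ : Subgroup S)⁆ ≤ center S :=
  commutator_le.2 fun _ hv s _ => i.quad h hi hv s

theorem comm_not_le : ¬ ⁅i.V, (⊤ : Subgroup S)⁆ ≤ i.Zc := by
  obtain ⟨v, hv, hvz⟩ := i.exists_notMem_V h hi
  obtain ⟨s, -, hs⟩ := SetLike.exists_of_lt (lt_top_iff_ne_top.2 i.Q_ne_top)
  intro hle
  refine hvz (i.regular h hi hv hs ?_)
  rw [← commutatorElement_inv]
  exact inv_mem (hle (commutator_mem_commutator hv (mem_top s)))

end Sit

end Cfsg.Agent.PushFamily
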